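import Cfsg.Agent.Omega.NSix.Engine.Frame

/-!
# #15755 (4), (5) (helper480) over the frame `Fr`, THEOREM C as a hypothesis `ThC ε U`

* `Fr.four` : `C_{U_ij}(⟨U_ik : k ∈ S⟩) = V_ij Σ_{ij ∪ S}`;
* `Fr.four_all` : `C_{U_ij}(⟨U_ik : k⟩) = V_ij`;
* `Fr.two_block` : `Σ_{X | Xᶜ} = ⟨v_X⟩`;
* `Fr.five` : `[Σ_PP, Q_pk ∩ C(V)] ≤ ⟨v⟩ Σ_{PP ∨ pk}`;
* `Fr.IsMax s` : `s ∈ C_G(V) - V` with a maximal partition `Lab U s`; then `[s, U_ab] ≤ V`, `[s, U_xy] ≠ 1` for `x`, `y` in
  different blocks, the block of `x` being not a point, and `s` centralises `[U_ab, U_cd]`.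
-/

set_option autoImplicit false
set_option linter.unusedSectionVars false

namespace Cfsg.Agent.Omega.NSix.Engine

open Subgroup Cfsg.Agent.Omega.S5.Def Cfsg.Agent.Omega.NSix.Base
open Cfsg.Agent.Omega.TTn.Di (cm cj cj_mul cj_inv cj_cj cj_one cj_eq_of_comm comm_of_cj cj_eq_cm cm_eq
  cm_one_iff cm_eq')

universe u

variable {G : Type u} [Group G] {n : ℕ}

/-- THEOREM C: `C_{U_ik}(U_ij) = ⟨z_j⟩ Σ_ijk` -/
def ThC (ε : (Fin n → ZMod 2) → G) (U : Fin n → Fin n → Subgroup G) : Prop :=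
  ∀ {i j k : Fin n}, i ≠ j → k ≠ i → k ≠ j → ∀ u ∈ U i k, Fr.Cen U u i j → u ∈ U i j ∨ u * zz ε j ∈ U i j

namespace Fr

variable {ε : (Fin n → ZMod 2) → G} {U W Q : Fin n → Fin n → Subgroup G} {w : Fin n → Fin n → G}
  (F : Fr ε U W Q w) {i j k l m : Fin n}

include F

/-- **(4)** -/
theorem four (hC : ThC ε U) (hij : i ≠ j) {u : G} (hu : u ∈ U i j) (S : Finset (Fin n)) :
    i ∉ S → j ∉ S → (∀ k ∈ S, Cen U u i k) →
      ∃ x : Fin n → ZMod 2, (∀ k, k ∉ S → x k = 0) ∧ u * ε x ∈ U i j ∧ ∀ k ∈ S, u * ε x ∈ U i k := by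
  induction S using Finset.induction_on with
  | empty =>
    intro _ _ _
    exact ⟨0, fun _ _ => rfl, by rw [F.zero, mul_one]; exact hu, fun k hk => absurd hk (Finset.notMem_empty k)⟩
  | insert a S ha ih =>
    intro hi hj hc
    rw [Finset.mem_insert, not_or] at hi hj
    obtain ⟨x, h1, h2, h3⟩ := ih hi.2 hj.2 fun k hk => hc k (Finset.mem_insert_of_mem hk)
    have hia : i ≠ a := hi.1
    have hja : j ≠ a := hj.1
    have hxa : ε x ∈ U i a := (F.eU hia _).2 (by rw [h1 i hi.2, h1 a ha])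
    rcases hC hia hij.symm hja u hu (hc a (Finset.mem_insert_self _ _)) with h4 | h4
    · refine ⟨x, fun k hk => h1 k fun h => hk (Finset.mem_insert_of_mem h), h2, fun k hk => ?_⟩
      rcases Finset.mem_insert.1 hk with rfl | hk
      · exact mul_mem h4 hxa
      · exact h3 k hk
    · refine ⟨x + Pi.single a 1, fun k hk => ?_, ?_, fun k hk => ?_⟩
      · rw [Finset.mem_insert, not_or] at hk
        rw [Pi.add_apply, h1 k hk.2, Pi.single_eq_of_ne hk.1, add_zero]
      · rw [F.add, ← mul_assoc]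
        exact mul_mem h2 (F.zU hij hia.symm hja.symm)
      · rw [F.add]
        rcases Finset.mem_insert.1 hk with rfl | hk
        · rw [F.ecomm, ← mul_assoc]
          exact mul_mem h4 hxa
        · have hik : i ≠ k := fun h => hi.2 (h ▸ hk)
          have hak : a ≠ k := fun h => ha (h ▸ hk)
          rw [← mul_assoc]
          exact mul_mem (h3 k hk) (F.zU hik hia.symm hak)

/-- **(4)**, all labels -/
theorem four_all (hC : ThC ε U) (hij : i ≠ j) {u : G} (hu : u ∈ U i j)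
    (hc : ∀ k, k ≠ i → k ≠ j → Cen U u i k) : ∃ x : Fin n → ZMod 2, x i = 0 ∧ x j = 0 ∧ u = ε x := by
  obtain ⟨x, h1, h2, h3⟩ := F.four hC hij hu (Finset.univ \ {i, j}) (by simp) (by simp) fun k hk => by
    simp only [Finset.mem_sdiff, Finset.mem_univ, true_and, Finset.mem_insert, Finset.mem_singleton, not_or] at hk
    exact hc k hk.1 hk.2
  refine ⟨x, h1 i (by simp), h1 j (by simp), ?_⟩
  have h4 : u * ε x = 1 := by
    refine F.star (i := i) fun a => ?_
    rcases eq_or_ne i a with rfl | hia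
    · exact Or.inl rfl
    · right
      rcases eq_or_ne a j with rfl | haj
      · exact h2
      · exact h3 a (by simp [hia.symm, haj])
  rw [mul_eq_one_iff_eq_inv.1 h4, F.einv]

theorem range_mul {a b : G} (ha : ∃ x, a = ε x) (hb : ∃ x, b = ε x) : ∃ x, a * b = ε x := by
  obtain ⟨x, rfl⟩ := ha
  obtain ⟨y, rfl⟩ := hb
  exact ⟨x + y, (F.add _ _).symm⟩

/-- an element of `C_G(V)` commutes with every `U a b` inside its blocks -/
theorem comm_of_lab {s y : G} (hs : Lab U s i j) (hij : i ≠ j) (hy : y ∈ U i j) : s * y = y * s :=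
  F.Uab hij s (hs.resolve_left hij) y hy

omit F in
theorem z2 : ∀ a b c : ZMod 2, a ≠ b → c = a ∨ c = b := by decide

omit F in
theorem z2c : ∀ a : ZMod 2, a = 0 ∨ a = 1 := by decide

omit F in
theorem z2' : ∀ a b : ZMod 2, a ≠ b → a = b + 1 := by decide

/-- **(3.1)**: `Σ_{X | Xᶜ} = ⟨v_X⟩` -/
theorem two_block (hC : ThC ε U) {c : Fin n → ZMod 2} {s : G} (hsK : s ∈ KK ε) (hij : i ≠ j) (hc : c i = c j)
    (hs : ∀ a b, c a = c b → Lab U s a b) : s = 1 ∨ s = ε c := by
  have h1 : ∀ a b, a ≠ b → Cen U s a b := by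
    intro a b hab y hy
    have hyK := F.UK hab hy
    by_cases hcab : c a = c b
    · exact F.comm_of_lab (hs a b hcab) hab hy
    · refine cm_one_iff.1 (F.star (i := a) fun d => ?_)
      rcases z2 (c a) (c b) (c d) hcab with h | h
      · exact F.lab_cm_left (hs a d h.symm) hyK
      · exact F.lab_trans (F.lab_cm_right hsK (Or.inr hy)) (F.lab_cm_left (hs b d h.symm) hyK)
  obtain ⟨x, -, -, rfl⟩ := F.four_all hC hij ((hs i j hc).resolve_left hij) fun k hki _ => h1 i k hki.symm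
  have h2 : ∀ a b, c a = c b → x a = x b := fun a b hab => (F.lab_e x).1 (hs a b hab)
  by_cases hconst : ∀ a, c a = c i
  · left
    have h3 : ∀ a, x a = x i := fun a => h2 a i (hconst a)
    rcases z2c (x i) with h4 | h4
    · have : x = 0 := funext fun a => by rw [h3 a, h4]; rfl
      rw [this, F.zero]
    · have : x = 1 := funext fun a => by rw [h3 a, h4]; rfl
      rw [this, F.eone]
  · push Not at hconst
    obtain ⟨d, hd⟩ := hconst
    by_cases hxd : x d = x i
    · left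
      have h3 : ∀ a, x a = x i := by
        intro a
        rcases z2 _ _ (c a) hd with h | h
        · rw [h2 a d h, hxd]
        · exact h2 a i h
      rcases z2c (x i) with h4 | h4
      · have : x = 0 := funext fun a => by rw [h3 a, h4]; rfl
        rw [this, F.zero]
      · have : x = 1 := funext fun a => by rw [h3 a, h4]; rfl
        rw [this, F.eone]
    · right
      have key : ∀ a b c d : ZMod 2, a ≠ b → c ≠ d → a + c = b + d := by decide
      have h3 : ∀ a, x a + c a = x i + c i := by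
        intro a
        rcases z2 _ _ (c a) hd with h | h
        · rw [h2 a d h, h]
          exact key _ _ _ _ hxd hd
        · rw [h2 a i h, h]
      rcases z2c (x i + c i) with h4 | h4
      · have h5 : x + c = 0 := funext fun a => by rw [Pi.add_apply, h3 a, h4]; rfl
        rw [eq_of_add_eq_zero h5]
      · have h5 : x + (c + 1) = 0 := by
          rw [← add_assoc]
          have : x + c = 1 := funext fun a => by rw [Pi.add_apply, h3 a, h4]; rfl
          rw [this, add_self]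
        rw [eq_of_add_eq_zero h5, F.add, F.eone, mul_one]

/-! ### (5) -/

/-- **(5)**: `[Σ_PP, Q_pk ∩ C(V)] ≤ ⟨v⟩ Σ_{PP ∨ pk}`, `PP = Lab U s`, `v = ε c` constant on the blocks, separating `p`, `k` -/
theorem five (hij : i ≠ j) (hki : k ≠ i) (hkj : k ≠ j) {s q : G} (hs : s ∈ U i k) (hq : q ∈ Q i j)
    (hqK : q ∈ KK ε) {c : Fin n → ZMod 2} (hc : ∀ a b, Lab U s a b → c a = c b) (hne : c i ≠ c j) :
    ∃ c', (c' = 0 ∨ c' = c) ∧ (∀ a b, Lab U s a b → Lab U (s⁻¹ * cj q s * ε c') a b) ∧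
      s⁻¹ * cj q s * ε c' ∈ U i j := by
  have hsK := F.UK hki.symm hs
  have h0 : ∀ a b, Lab U s a b → Lab U (s⁻¹ * cj q s) a b := fun a b h =>
    lab_mul (lab_inv h) (by
      have := F.lab_cj (mem_KK.1 hqK) h
      exact this)
  obtain ⟨-, h1 | h1⟩ := F.uq hij hki hkj hs hq hqK
  · refine ⟨0, Or.inl rfl, ?_, ?_⟩
    · intro a b h
      rw [F.zero, mul_one]
      exact h0 a b h
    · rw [F.zero, mul_one]
      exact h1
  · refine ⟨c, Or.inr rfl, fun a b h => lab_mul (h0 a b h) ((F.lab_e c).2 (hc a b h)), ?_⟩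
    have h2 : zz ε j * ε c ∈ U i j := by
      change ε _ * ε c ∈ U i j
      rw [← F.add, F.eU hij, Pi.add_apply, Pi.add_apply, Pi.single_eq_of_ne hij, Pi.single_eq_same, zero_add,
        add_comm]
      exact z2' _ _ hne
    have h3 := mul_mem h1 h2
    rwa [mul_assoc, ← mul_assoc (zz ε j), F.z_sq, one_mul] at h3

/-- `s ∈ C_G(V) - V` with a maximal partition -/
structure IsMax (ε : (Fin n → ZMod 2) → G) (U : Fin n → Fin n → Subgroup G) (s : G) : Prop where
  mem : s ∈ KK ε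
  notV : ∀ x, s ≠ ε x
  max : ∀ t ∈ KK ε, (∀ a b, Lab U s a b → Lab U t a b) → (∃ a b, Lab U t a b ∧ ¬ Lab U s a b) → ∃ x, t = ε x

omit F in
/-- every element of `C_G(V) - V` has one with a coarser, maximal partition -/
theorem exists_isMax {s : G} (hs : s ∈ KK ε) (hV : ∀ x, s ≠ ε x) :
    ∃ t, IsMax ε U t ∧ ∀ a b, Lab U s a b → Lab U t a b := by
  classical
  let f : G → ℕ := fun t => (Finset.univ.filter fun p : Fin n × Fin n => Lab U t p.1 p.2).card
  have hb : ∀ t, f t ≤ Fintype.card (Fin n × Fin n) := fun t => Finset.card_le_univ _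
  have key : ∀ N : ℕ, ∀ s : G, s ∈ KK ε → (∀ x, s ≠ ε x) → Fintype.card (Fin n × Fin n) - f s = N →
      ∃ t, IsMax ε U t ∧ ∀ a b, Lab U s a b → Lab U t a b := by
    intro N
    induction N using Nat.strong_induction_on with
    | _ N ih =>
      intro s hs hV hN
      by_cases hm : IsMax ε U s
      · exact ⟨s, hm, fun _ _ h => h⟩
      · have : ¬ ∀ t ∈ KK ε, (∀ a b, Lab U s a b → Lab U t a b) → (∃ a b, Lab U t a b ∧ ¬ Lab U s a b) →
            ∃ x, t = ε x := fun h => hm ⟨hs, hV, h⟩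
        push Not at this
        obtain ⟨t, ht, h1, ⟨a, b, h2, h3⟩, h4⟩ := this
        have hlt : f s < f t := by
          refine Finset.card_lt_card (Finset.ssubset_iff_subset_ne.2 ⟨?_, ?_⟩)
          · intro p hp
            rw [Finset.mem_filter] at hp ⊢
            exact ⟨hp.1, h1 _ _ hp.2⟩
          · intro he
            have h5 : ((a, b) : Fin n × Fin n) ∈ Finset.univ.filter fun p : Fin n × Fin n => Lab U s p.1 p.2 := by
              rw [he, Finset.mem_filter]
              exact ⟨Finset.mem_univ _, h2⟩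
            exact h3 (Finset.mem_filter.1 h5).2
        have := hb t
        obtain ⟨t', ht', h5⟩ := ih _ (by omega) t ht h4 rfl
        exact ⟨t', ht', fun a b h => h5 a b (h1 a b h)⟩
  exact key _ s hs hV rfl

/-- `[s, U_ab] ≤ V` -/
theorem max_cm {s : G} (h : IsMax ε U s) (hij : i ≠ j) {y : G} (hy : y ∈ U i j) : ∃ x, cm s y = ε x := by
  have hyK := F.UK hij hy
  by_cases hl : Lab U s i j
  · exact ⟨0, by rw [F.zero, cm_one_iff]; exact F.comm_of_lab hl hij hy⟩
  · exact h.max _ (F.cmK h.mem hyK) (fun a b hab => F.lab_cm_left hab hyK)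
      ⟨i, j, F.lab_cm_right h.mem (Or.inr hy), hl⟩

/-- a function constant on the blocks which separates two blocks -/
theorem exists_sep {s : G} {x y : Fin n} (hxy : ¬ Lab U s x y) :
    ∃ c : Fin n → ZMod 2, (∀ a b, Lab U s a b → c a = c b) ∧ c x ≠ c y := by
  classical
  refine ⟨fun a => if Lab U s x a then 1 else 0, fun a b hab => ?_, ?_⟩
  · by_cases h : Lab U s x a
    · have h' : Lab U s x b := F.lab_trans h hab
      simp only [h, h', if_true]
    · have h' : ¬ Lab U s x b := fun h' => h (F.lab_trans h' (F.lab_symm hab))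
      simp only [h, h', if_false]
  · simp only [lab_refl, if_true, hxy, if_false]
    decide

/-- `[s, U_xy] ≠ 1` for `x`, `y` in different blocks, the block of `x` being not a point -/
theorem max_not_cen (hC : ThC ε U) {s : G} (h : IsMax ε U s) (hik : i ≠ k) (hs : s ∈ U i k)
    (hl : ¬ Lab U s i j) : ¬ Cen U s i j := by
  intro hc
  have hij : i ≠ j := fun h => hl (Or.inl h)
  have hkj : k ≠ j := by
    rintro rfl
    exact hl (Or.inr hs)
  obtain ⟨c, hc1, hc2⟩ := F.exists_sep hl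
  rcases hC hij hik.symm hkj s hs hc with h1 | h1
  · exact hl (Or.inr h1)
  · have h2 : zz ε j * ε c ∈ U i j := by
      change ε _ * ε c ∈ U i j
      rw [← F.add, F.eU hij, Pi.add_apply, Pi.add_apply, Pi.single_eq_of_ne hij, Pi.single_eq_same, zero_add,
        add_comm]
      exact z2' _ _ hc2
    have h3 := mul_mem h1 h2
    rw [mul_assoc, ← mul_assoc (zz ε j), F.z_sq, one_mul] at h3
    obtain ⟨x, hx⟩ := h.max (s * ε c) (mul_mem h.mem (F.eK c))
      (fun a b hab => lab_mul hab ((F.lab_e c).2 (hc1 a b hab))) ⟨i, j, Or.inr h3, hl⟩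
    refine h.notV (x + c) ?_
    rw [F.add, ← hx, mul_assoc, F.esq, mul_one]

/-- `s` centralises `[U_ab, U_cd]` -/
theorem max_comm {s : G} (h : IsMax ε U s) {a b c d : Fin n} (hab : a ≠ b) (hcd : c ≠ d) {x y : G}
    (hx : x ∈ U a b) (hy : y ∈ U c d) : s * cm x y = cm x y * s := by
  obtain ⟨f, hf⟩ := F.max_cm h hab hx
  obtain ⟨g, hg⟩ := F.max_cm h hcd hy
  have hxK := F.UK hab hx
  have hyK := F.UK hcd hy
  apply comm_of_cj
  have e1 : cj s x = ε f * x := by rw [cj_eq_cm, hf]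
  have e2 : cj s y = ε g * y := by rw [cj_eq_cm, hg]
  have e3 : cj s (cm x y) = cm (cj s x) (cj s y) := by unfold cj cm; group
  rw [e3, e1, e2]
  unfold cm
  rw [mul_inv_rev, mul_inv_rev]
  calc ε f * x * (ε g * y) * (x⁻¹ * (ε f)⁻¹) * (y⁻¹ * (ε g)⁻¹)
      = ε f * (x * ε g) * y * x⁻¹ * ((ε f)⁻¹ * y⁻¹) * (ε g)⁻¹ := by group
    _ = ε f * (ε g * x) * y * x⁻¹ * (y⁻¹ * (ε f)⁻¹) * (ε g)⁻¹ := by
        rw [Ke hxK g, F.einv f, Ke (inv_mem hyK) f]
    _ = (ε f * ε g) * (x * y * x⁻¹ * y⁻¹ * ((ε f)⁻¹ * (ε g)⁻¹)) := by group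
    _ = x * y * x⁻¹ * y⁻¹ * ((ε f)⁻¹ * (ε g)⁻¹) * (ε f * ε g) := by
        rw [← F.add, Ke (g := x * y * x⁻¹ * y⁻¹ * ((ε f)⁻¹ * (ε g)⁻¹))]
        exact mul_mem (mul_mem (mul_mem (mul_mem hxK hyK) (inv_mem hxK)) (inv_mem hyK))
          (mul_mem (inv_mem (F.eK f)) (inv_mem (F.eK g)))
    _ = x * y * x⁻¹ * y⁻¹ := by
        rw [F.ecomm f g]
        group

end Fr

end Cfsg.Agent.Omega.NSix.Engine
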