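import Cfsg.Agent.Omega.NSix.Engine.ThmC
import Cfsg.Agent.Omega.NSix.Engine.Sigma
import Cfsg.Agent.Omega.NSix.Zero
import Cfsg.Agent.Omega.TTn.DiCoreAbs

/-!
# The instance of the frame `Fr` of #15755 in the group

`Hyp V P ε`: the hypotheses on the group ((H1), `V` minimal, an involution of `WP ε i j` which moves `V`);
`W2 ε i j` = the elements of `WP ε i j` with square in `⟨r_ij⟩`;
* `Hyp.fr` : `Fr ε (UU ε) (W2 ε) (fun i j => o2 (NN ε i j)) w` for every choice of `w i j ∈ W2 ε i j` inducing `(i j)`;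
* `Hyp.core_gen` : an element of some `o2 (NN ε a b)` which centralises `UU ε i j` and `UU ε k l` lies in `o2 (NN ε i j)`;
* `Hyp.hq_of_comm` : if disjoint `UU`'s commute then `(H2)`;
* `Hyp.of` : `Hyp` in a group of characteristic 2 type with `zc S ≤ V`.
-/

set_option autoImplicit false
set_option linter.unusedSectionVars false
set_option linter.unusedVariables false

namespace Cfsg.Agent.Omega.NSix.Engine

open Subgroup Cfsg
open Cfsg.Agent.ZN (o2 zc)
open Cfsg.Agent.MinSimple.VModule (o2_le o2_isPGroup le_normalizer_o2 le_o2 mem_zc)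
open Cfsg.Agent.MinSimple.Geo (mem_o2_of_stab)
open Cfsg.Agent.Omega.S5.Def Cfsg.Agent.Omega.NSix.Base Cfsg.Agent.Omega.NSix.Basic
open Cfsg.Agent.Omega.NSix.Zero
open Cfsg.Agent.Omega.TTn.Di (cm cj)
open Cfsg.Agent.Omega.TTn

universe u

variable {G : Type u} [Group G] {n : ℕ} {V P : Subgroup G} {ε : (Fin n → ZMod 2) → G}

/-- the hypotheses -/
structure Hyp (V P : Subgroup G) (ε : (Fin n → ZMod 2) → G) : Prop where
  n5 : 5 ≤ n
  odd : Odd n
  ev : EvenSet n V P ε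
  pair : ∀ i j k, i ≠ j → k ≠ i → k ≠ j → ∀ q ∈ o2 (NN ε i j), q * zz ε k = zz ε k * q
  le : ∀ i j, i ≠ j → o2 (NN ε i j) ≤ P
  stab : ∀ i j, i ≠ j → WP ε i j ≤ o2 (NN ε i j)
  min : ∀ A : Subgroup G, (∀ g ∈ P, ∀ a ∈ A, g * a * g⁻¹ ∈ A) → (∀ a ∈ A, a * a = 1) → A ≠ ⊥ → V ≤ A
  mov : ∃ i j, i ≠ j ∧ ∃ g ∈ WP ε i j, g * g ∈ zpowers (rr ε i j) ∧ ¬ g ∈ centralizer (V : Set G)

/-- the elements of `WP` with square in `⟨r⟩` -/
def W2 (ε : (Fin n → ZMod 2) → G) (i j : Fin n) : Subgroup G :=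
  closure {g | g ∈ WP ε i j ∧ g * g ∈ zpowers (rr ε i j)}

theorem W2_le (i j : Fin n) : W2 ε i j ≤ WP ε i j := by
  unfold W2
  rw [closure_le]
  exact fun g hg => hg.1

theorem W2_of {i j : Fin n} {g : G} (h1 : g ∈ WP ε i j) (h2 : g * g ∈ zpowers (rr ε i j)) : g ∈ W2 ε i j :=
  subset_closure ⟨h1, h2⟩

theorem W2_conj {g : G} {σ : Equiv.Perm (Fin n)} (hg : Acts ε g σ) {i j : Fin n} {x : G}
    (hx : x ∈ W2 ε i j) : g * x * g⁻¹ ∈ W2 ε (σ i) (σ j) := by
  unfold W2 at hx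
  induction hx using closure_induction with
  | mem x hx =>
    refine W2_of (WP_conj hg hx.1) ?_
    obtain ⟨k, hk⟩ := mem_zpowers_iff.1 hx.2
    rw [mem_zpowers_iff]
    refine ⟨k, ?_⟩
    rw [← rr_conj hg, conj_zpow, hk]
    group
  | one => rw [mul_one, mul_inv_cancel]; exact one_mem _
  | mul x y _ _ hx hy =>
    have : g * (x * y) * g⁻¹ = (g * x * g⁻¹) * (g * y * g⁻¹) := by group
    rw [this]; exact mul_mem hx hy
  | inv x _ hx =>
    have : g * x⁻¹ * g⁻¹ = (g * x * g⁻¹)⁻¹ := by group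
    rw [this]; exact inv_mem hx

theorem W2_norm {i j : Fin n} {g x : G} (hg : g ∈ NN ε i j) (hx : x ∈ W2 ε i j) :
    g * x * g⁻¹ ∈ W2 ε i j := by
  unfold W2 at hx
  induction hx using closure_induction with
  | mem x hx =>
    refine W2_of (WP_norm hg hx.1) ?_
    obtain ⟨k, hk⟩ := mem_zpowers_iff.1 hx.2
    rw [mem_zpowers_iff]
    refine ⟨k, ?_⟩
    calc rr ε i j ^ k = (g * rr ε i j * g⁻¹) ^ k := by rw [mem_NN'.1 hg]
      _ = g * rr ε i j ^ k * g⁻¹ := by rw [conj_zpow]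
      _ = _ := by rw [hk]; group
  | one => rw [mul_one, mul_inv_cancel]; exact one_mem _
  | mul x y _ _ hx hy =>
    have : g * (x * y) * g⁻¹ = (g * x * g⁻¹) * (g * y * g⁻¹) := by group
    rw [this]; exact mul_mem hx hy
  | inv x _ hx =>
    have : g * x⁻¹ * g⁻¹ = (g * x * g⁻¹)⁻¹ := by group
    rw [this]; exact inv_mem hx

/-- an element conjugating `U_ab` -/
theorem cen_conj {g c : G} {σ : Equiv.Perm (Fin n)} (hg : Acts ε g σ) {a b : Fin n}
    (hc : c ∈ centralizer (UU ε a b : Set G)) : g * c * g⁻¹ ∈ centralizer (UU ε (σ a) (σ b) : Set G) := by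
  refine mem_centralizer_iff.2 fun u hu => ?_
  have h1 := UU_conj hg.inv hu
  have e : ∀ m, σ⁻¹ (σ m) = m := fun m => σ.symm_apply_apply m
  rw [e, e, inv_inv] at h1
  have h2 := mem_centralizer_iff.1 hc _ h1
  calc u * (g * c * g⁻¹) = g * (g⁻¹ * u * g * c) * g⁻¹ := by group
    _ = g * (c * (g⁻¹ * u * g)) * g⁻¹ := by rw [h2]
    _ = g * c * g⁻¹ * u := by group

theorem cen_norm {g c : G} {a b : Fin n} (hg : g ∈ NN ε a b) (hc : c ∈ centralizer (UU ε a b : Set G)) :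
    g * c * g⁻¹ ∈ centralizer (UU ε a b : Set G) := by
  refine mem_centralizer_iff.2 fun u hu => ?_
  have h1 := UU_normal (inv_mem hg) hu
  rw [inv_inv] at h1
  have h2 := mem_centralizer_iff.1 hc _ h1
  calc u * (g * c * g⁻¹) = g * (g⁻¹ * u * g * c) * g⁻¹ := by group
    _ = g * (c * (g⁻¹ * u * g)) * g⁻¹ := by rw [h2]
    _ = g * c * g⁻¹ * u := by group

theorem WP_symm (h : EvenSet n V P ε) (i j : Fin n) : WP ε i j = WP ε j i := by
  ext g
  rw [mem_WP, mem_WP, NN_symm h, rr_symm h]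

theorem W2_symm (h : EvenSet n V P ε) (i j : Fin n) : W2 ε i j = W2 ε j i := by
  unfold W2
  rw [WP_symm h, rr_symm h]

/-- a further label -/
theorem exists_fifth (hn : 5 ≤ n) (i j k l : Fin n) : ∃ m : Fin n, m ≠ i ∧ m ≠ j ∧ m ≠ k ∧ m ≠ l := by
  have hcard : ({i, j, k, l} : Finset (Fin n)).card < (Finset.univ : Finset (Fin n)).card := by
    rw [Finset.card_univ, Fintype.card_fin]
    exact lt_of_le_of_lt Finset.card_le_four (by omega)
  obtain ⟨m, -, hm⟩ := Finset.exists_mem_notMem_of_card_lt_card hcard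
  simp only [Finset.mem_insert, Finset.mem_singleton, not_or] at hm
  exact ⟨m, hm.1, hm.2.1, hm.2.2.1, hm.2.2.2⟩

namespace Hyp

variable (h : Hyp V P ε) {i j k l : Fin n}
include h

theorem n3 : 3 ≤ n := le_trans (by norm_num) h.n5

theorem r_mem_NN (i j : Fin n) : rr ε i j ∈ NN ε i j := mem_NN.2 rfl

theorem W2_leQ (hij : i ≠ j) : W2 ε i j ≤ o2 (NN ε i j) := (W2_le i j).trans (h.stab i j hij)

/-- `WP` acts on `O₂(N)` -/
theorem wp_cases (_ : i ≠ j) {q x : G} (hq : q ∈ o2 (NN ε i j)) (hx : x ∈ WP ε i j) :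
    cm q x = 1 ∨ cm q x = rr ε i j := by
  refine zpow_cases (rr_sq h.ev i j) ?_
  have h1 := inv_mem (hx.2 q hq)
  have h2 : (x * q * x⁻¹ * q⁻¹)⁻¹ = cm q x := by unfold cm; group
  rwa [h2] at h1

/-- the squares -/
theorem W2_sq (hij : i ≠ j) {x : G} (hx : x ∈ W2 ε i j) : x * x = 1 ∨ x * x = rr ε i j := by
  refine zpow_cases (rr_sq h.ev i j) ?_
  have hr : ∀ {a z : G}, a ∈ WP ε i j → z ∈ zpowers (rr ε i j) → a * z = z * a := by
    intro a z ha hz
    obtain ⟨k, rfl⟩ := mem_zpowers_iff.1 hz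
    have h1 : Commute a (rr ε i j) := mem_NN.1 ha.1
    exact h1.zpow_right k
  unfold W2 at hx
  induction hx using closure_induction with
  | mem x hx => exact hx.2
  | one => rw [mul_one]; exact one_mem _
  | mul x y hx' hy' hx hy =>
    have hxW : x ∈ WP ε i j := W2_le i j hx'
    have hyW : y ∈ WP ε i j := W2_le i j hy'
    have h1 := hyW.2 x (h.stab i j hij hxW)
    have h2 : x * y * (x * y) = x * (y * x * y⁻¹ * x⁻¹) * x * (y * y) := by group
    rw [h2, hr hxW h1, mul_assoc (y * x * y⁻¹ * x⁻¹)]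
    exact mul_mem (mul_mem h1 hx) hy
  | inv x _ hx =>
    have h1 : x⁻¹ * x⁻¹ = (x * x)⁻¹ := by group
    rw [h1]; exact inv_mem hx

/-- `O₂(N)` acts as `⟨(i j)⟩` -/
theorem QA (hij : i ≠ j) {q : G} (hqQ : q ∈ o2 (NN ε i j)) : Acts ε q 1 ∨ Acts ε q (Equiv.swap i j) := by
  obtain ⟨σ, hσ⟩ := h.ev.perm q (h.le i j hij hqQ)
  have hfix : ∀ k, k ≠ i → k ≠ j → σ k = k := by
    intro k h1 h2
    apply h.ev.single_inj h.n3
    have h3 := h.pair i j k hij h1 h2 q hqQ
    have h4 := zz_conj hσ k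
    rw [h3, mul_inv_cancel_right] at h4
    exact h4.symm
  have hpres : σ i = i ∨ σ i = j := by
    by_contra hc
    rw [not_or] at hc
    have h1 := hfix _ hc.1 hc.2
    exact hc.1 (σ.injective h1)
  have hpres' : σ j = i ∨ σ j = j := by
    by_contra hc
    rw [not_or] at hc
    have h1 := hfix _ hc.1 hc.2
    exact hc.2 (σ.injective h1)
  rcases hpres with h1 | h1
  · left
    have h2 : σ j = j := hpres'.resolve_left fun h2 => hij (σ.injective (h1.trans h2.symm))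
    have h3 : σ = 1 := by
      ext k
      by_cases hk1 : k = i
      · rw [hk1, h1]; rfl
      by_cases hk2 : k = j
      · rw [hk2, h2]; rfl
      rw [hfix k hk1 hk2]; rfl
    rwa [h3] at hσ
  · right
    have h2 : σ j = i := hpres'.resolve_right fun h2 => hij (σ.injective (h1.trans h2.symm))
    have h3 : σ = Equiv.swap i j := by
      ext k
      by_cases hk1 : k = i
      · rw [hk1, h1, Equiv.swap_apply_left]
      by_cases hk2 : k = j
      · rw [hk2, h2, Equiv.swap_apply_right]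
      rw [hfix k hk1 hk2, Equiv.swap_apply_of_ne_of_ne hk1 hk2]
    rwa [h3] at hσ

/-- `O₂(N)` commutes with `U` -/
theorem UQc (hij : i ≠ j) {q : G} (hq : q ∈ o2 (NN ε i j)) {u : G} (hu : u ∈ UU ε i j) : q * u = u * q := by
  unfold UU at hu
  induction hu using closure_induction generalizing q with
  | mem x hx =>
    obtain ⟨g, hg, k, h1, h2, rfl⟩ := hx
    have h3 : g⁻¹ * q * g ∈ o2 (NN ε i j) := by
      have := (mem_normalizer_iff.mp (le_normalizer_o2 _ (inv_mem hg)) q).mp hq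
      rwa [inv_inv] at this
    have h4 := h.pair i j k hij h1 h2 _ h3
    calc q * (g * zz ε k * g⁻¹) = g * ((g⁻¹ * q * g) * zz ε k) * g⁻¹ := by group
      _ = g * (zz ε k * (g⁻¹ * q * g)) * g⁻¹ := by rw [h4]
      _ = _ := by group
  | one => rw [one_mul, mul_one]
  | mul x y _ _ hx hy => rw [← mul_assoc, hx hq, mul_assoc, hy hq, mul_assoc]
  | inv x _ hx => rw [mul_inv_eq_iff_eq_mul, mul_assoc, hx hq, inv_mul_cancel_left]

theorem key_swap (hij : i ≠ j) (y : Fin n → ZMod 2) {p : G} (hp : Acts ε p (Equiv.swap i j)) :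
    p * ε y * p⁻¹ = ε y ∨ p * ε y * p⁻¹ = ε y * rr ε i j := by
  rw [hp y]
  have h1 : y ∘ (Equiv.swap i j).symm = y + (y i + y j) • (Pi.single i 1 + Pi.single j 1) := by
    funext k
    rw [Function.comp_apply, Equiv.symm_swap, Pi.add_apply, Pi.smul_apply, Pi.add_apply]
    by_cases h1 : k = i
    · subst h1
      rw [Equiv.swap_apply_left, Pi.single_eq_same, Pi.single_eq_of_ne hij, add_zero,
        smul_eq_mul, mul_one, ← add_assoc, Tv.z2_add, zero_add]
    by_cases h2 : k = j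
    · subst h2
      rw [Equiv.swap_apply_right, Pi.single_eq_same, Pi.single_eq_of_ne h1, zero_add,
        smul_eq_mul, mul_one, add_comm (y i), ← add_assoc, Tv.z2_add, zero_add]
    · rw [Equiv.swap_apply_of_ne_of_ne h1 h2, Pi.single_eq_of_ne h1, Pi.single_eq_of_ne h2,
        add_zero, smul_zero, add_zero]
  rw [h1, h.ev.add]
  rcases Tv.z2 (y i + y j) with h2 | h2
  · left
    rw [h2, zero_smul, h.ev.zero, mul_one]
  · right
    rw [h2, one_smul, h.ev.add]
    rfl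

theorem V_le (hij : i ≠ j) : V ≤ W2 ε i j := by
  intro v hv
  have hsq : v * v ∈ zpowers (rr ε i j) := by rw [h.ev.sq_mem hv]; exact one_mem _
  refine W2_of ?_ hsq
  rw [mem_WP]
  have hvN : v ∈ NN ε i j := by
    rw [mem_NN]
    exact h.ev.comm_mem hv (rr_mem h.ev i j)
  refine ⟨hvN, fun q hqQ => ?_⟩
  obtain ⟨x, rfl⟩ := h.ev.surj v hv
  have hcase : q * ε x * q⁻¹ = ε x ∨ q * ε x * q⁻¹ = ε x * rr ε i j := by
    rcases h.QA hij hqQ with h1 | h1
    · left; exact h1 x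
    · exact h.key_swap hij x h1
  rcases hcase with h1 | h1
  · have h2 : ε x * q * (ε x)⁻¹ * q⁻¹ = 1 := by
      calc ε x * q * (ε x)⁻¹ * q⁻¹ = ε x * (q * ε x * q⁻¹)⁻¹ := by group
        _ = 1 := by rw [h1, mul_inv_cancel]
    rw [h2]
    exact one_mem _
  · have h2 : ε x * q * (ε x)⁻¹ * q⁻¹ = (rr ε i j)⁻¹ := by
      have h3 : ε x * rr ε i j = rr ε i j * ε x := h.ev.comm_mem (h.ev.mem x) (rr_mem h.ev i j)
      calc ε x * q * (ε x)⁻¹ * q⁻¹ = ε x * (q * ε x * q⁻¹)⁻¹ := by group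
        _ = _ := by rw [h1, h3]; group
    rw [h2]
    exact inv_mem (mem_zpowers _)

theorem U_leW (hij : i ≠ j) : UU ε i j ≤ W2 ε i j := by
  unfold UU
  rw [closure_le]
  rintro x ⟨g, hg, k, -, -, rfl⟩
  exact W2_norm hg (h.V_le hij (zz_mem h.ev k))

theorem UQ (hij : i ≠ j) : UU ε i j ≤ o2 (NN ε i j) := (h.U_leW hij).trans (h.W2_leQ hij)

theorem UK (hij : i ≠ j) : UU ε i j ≤ KK ε := by
  intro u hu
  refine mem_KK'.2 fun x => ?_
  exact (h.UQc hij (h.W2_leQ hij (h.V_le hij (h.ev.mem x))) hu).symm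

theorem Uab (hij : i ≠ j) {u v : G} (hu : u ∈ UU ε i j) (hv : v ∈ UU ε i j) : u * v = v * u :=
  h.UQc hij (h.UQ hij hu) hv

theorem Usq (hij : i ≠ j) {u : G} (hu : u ∈ UU ε i j) : u * u = 1 := by
  have hu' : u ∈ closure {x | ∃ g ∈ NN ε i j, ∃ k, k ≠ i ∧ k ≠ j ∧ x = g * zz ε k * g⁻¹} := hu
  induction hu' using closure_induction with
  | mem x hx =>
    obtain ⟨g, -, k, -, -, rfl⟩ := hx
    calc g * zz ε k * g⁻¹ * (g * zz ε k * g⁻¹) = g * (zz ε k * zz ε k) * g⁻¹ := by group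
      _ = 1 := by rw [zz_sq h.ev, mul_one, mul_inv_cancel]
  | one => rw [mul_one]
  | mul x y hx' hy' hx hy =>
    have h1 : x * y = y * x := h.Uab hij hx' hy'
    calc x * y * (x * y) = x * (y * x) * y := by group
      _ = (x * x) * (y * y) := by rw [← h1]; group
      _ = 1 := by rw [hx hx', hy hy', mul_one]
  | inv x hx' hx =>
    have h1 : x⁻¹ * x⁻¹ = (x * x)⁻¹ := by group
    rw [h1, hx hx', inv_one]

theorem exists_w (hij : i ≠ j) : ∃ w ∈ W2 ε i j, Acts ε w (Equiv.swap i j) := by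
  obtain ⟨i0, j0, hij0, g, hg, hg2, hgV⟩ := h.mov
  have hgs : Acts ε g (Equiv.swap i0 j0) :=
    (h.QA hij0 (h.stab i0 j0 hij0 hg)).resolve_left fun h1 => hgV (h.ev.acts_one_iff.mp h1)
  obtain ⟨σ, h1, h2, -⟩ := exists_perm hij0 hij
  obtain ⟨p, -, hp⟩ := h.ev.full σ
  refine ⟨p * g * p⁻¹, ?_, ?_⟩
  · have := W2_conj hp (W2_of hg hg2)
    rwa [h1, h2] at this
  · have h3 := hp.conj hgs
    have h4 : σ * Equiv.swap i0 j0 * σ⁻¹ = Equiv.swap i j := by
      rw [← Equiv.swap_apply_apply, h1, h2]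
    rwa [h4] at h3

theorem eU (hij : i ≠ j) (x : Fin n → ZMod 2) : ε x ∈ UU ε i j ↔ x i = x j := by
  constructor
  · intro hx
    obtain ⟨w, hw, hwa⟩ := h.exists_w hij
    have h1 := h.UQc hij (h.W2_leQ hij hw) hx
    have h2 := hwa x
    rw [h1, mul_inv_cancel_right, h.ev.eq_iff] at h2
    rcases h2 with h2 | h2
    · have h3 := congrFun h2 i
      rw [Function.comp_apply, Equiv.symm_swap, Equiv.swap_apply_left] at h3
      exact h3
    · exfalso
      obtain ⟨m, h3, h4, -, -⟩ := exists_fifth h.n5 i j i j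
      have h5 := congrFun h2 m
      rw [Pi.add_apply, Function.comp_apply, Equiv.symm_swap, Equiv.swap_apply_of_ne_of_ne h3 h4,
        Pi.one_apply] at h5
      exact one_ne_zero (left_eq_add.1 h5)
  · intro hx
    have key : ∀ y : Fin n → ZMod 2, y i = 0 → y j = 0 → ε y ∈ UU ε i j := by
      intro y hy1 hy2
      have h1 : y = ∑ k ∈ Finset.univ.filter (fun k => y k ≠ 0), Pi.single k 1 := by
        funext m
        rw [Finset.sum_apply]
        by_cases hm : y m = 0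
        · rw [hm, Finset.sum_eq_zero]
          intro k hk
          have : m ≠ k := by
            rintro rfl
            exact (Finset.mem_filter.mp hk).2 hm
          exact Pi.single_eq_of_ne this _
        · rw [Finset.sum_eq_single m]
          · rw [Pi.single_eq_same]; exact Tv.z2_one hm
          · intro k _ hk
            exact Pi.single_eq_of_ne (Ne.symm hk) _
          · intro h0
            exfalso
            apply h0
            rw [Finset.mem_filter]
            exact ⟨Finset.mem_univ _, hm⟩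
      have h2 : ∀ F : Finset (Fin n), i ∉ F → j ∉ F → ε (∑ k ∈ F, Pi.single k 1) ∈ UU ε i j := by
        intro F
        induction F using Finset.induction_on with
        | empty => intro _ _; rw [Finset.sum_empty, h.ev.zero]; exact one_mem _
        | insert k F hk ih =>
          intro h3 h4
          rw [Finset.mem_insert, not_or] at h3 h4
          rw [Finset.sum_insert hk, h.ev.add]
          exact mul_mem (zz_mem_UU (Ne.symm h3.1) (Ne.symm h4.1)) (ih h3.2 h4.2)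
      rw [h1]
      apply h2
      · intro h3
        exact (Finset.mem_filter.mp h3).2 hy1
      · intro h3
        exact (Finset.mem_filter.mp h3).2 hy2
    rcases Tv.z2 (x i) with h1 | h1
    · exact key x h1 (by rw [← hx, h1])
    · have h2 := key (x + 1) (by rw [Pi.add_apply, h1, Pi.one_apply]; decide)
        (by rw [Pi.add_apply, ← hx, h1, Pi.one_apply]; decide)
      rwa [h.ev.add, h.ev.one, mul_one] at h2

theorem inter {x : G} (hx : ∀ i j, i ≠ j → x ∈ UU ε i j) : x = 1 := by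
  let A : Subgroup G :=
    { carrier := {x | ∀ i j, i ≠ j → x ∈ UU ε i j}
      one_mem' := fun _ _ _ => one_mem _
      mul_mem' := fun ha hb i j hij => mul_mem (ha i j hij) (hb i j hij)
      inv_mem' := fun ha i j hij => inv_mem (ha i j hij) }
  by_contra hx1
  have h0 : (⟨0, by have := h.n5; omega⟩ : Fin n) ≠ ⟨1, by have := h.n5; omega⟩ := by
    intro h1
    simp [Fin.ext_iff] at h1
  have h1 : V ≤ A := by
    refine h.min A ?_ ?_ ?_
    · intro g hg a ha i j hij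
      obtain ⟨σ, hσ⟩ := h.ev.perm g hg
      have h2 := UU_conj hσ (ha (σ⁻¹ i) (σ⁻¹ j) fun h3 => hij (σ⁻¹.injective h3))
      have e : ∀ m, σ (σ⁻¹ m) = m := fun m => σ.apply_symm_apply m
      rwa [e, e] at h2
    · intro a ha
      exact h.Usq h0 (ha _ _ h0)
    · intro h2
      have h3 : x ∈ A := hx
      rw [h2] at h3
      exact hx1 (mem_bot.1 h3)
  have h2 := h1 (zz_mem h.ev ⟨0, by have := h.n5; omega⟩) _ _ h0
  have h3 := (h.eU h0 _).1 h2
  rw [Pi.single_eq_same, Pi.single_eq_of_ne h0.symm] at h3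
  exact one_ne_zero h3

theorem rr_mem_U (hij : i ≠ j) : rr ε i j ∈ UU ε i j := rr_self_mem_UU h.ev hij

theorem C_le (hij : i ≠ j) : centralizer (UU ε i j : Set G) ≤ NN ε i j := fun x hx =>
  mem_NN.2 (mem_centralizer_iff.1 hx _ (h.rr_mem_U hij)).symm

theorem C_le' (hD : D4 i j k l) : centralizer (UU ε i j : Set G) ≤ NN ε k l := fun x hx =>
  mem_NN.2 (mem_centralizer_iff.1 hx _ (rr_mem_UU hD.ik.symm hD.jk.symm hD.il.symm hD.jl.symm)).symm

theorem Q_le (hD : D4 i j k l) : o2 (NN ε k l) ≤ NN ε i j := by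
  intro q hq
  have h1 := h.pair k l i hD.kl hD.ik hD.il q hq
  have h2 := h.pair k l j hD.kl hD.jk hD.jl q hq
  rw [mem_NN]
  unfold rr
  rw [← mul_assoc, h1, mul_assoc, h2, ← mul_assoc]

/-- (K3) -/
theorem inf_le (hD : D4 i j k l) {x : G} (hx : x ∈ W2 ε k l) (hc : x ∈ centralizer (UU ε i j : Set G)) :
    x ∈ o2 (NN ε i j) := by
  set C := centralizer (UU ε i j : Set G) with hC
  -- `W ∩ C ≤ O₂(C)`
  have h1 : W2 ε k l ⊓ C ≤ o2 C := by
    refine le_o2 inf_le_right ((o2_isPGroup (NN ε k l)).to_le (inf_le_left.trans (h.W2_leQ hD.kl))) ?_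
    intro g hg
    have key : ∀ g ∈ C, ∀ y ∈ W2 ε k l ⊓ C, g * y * g⁻¹ ∈ W2 ε k l ⊓ C := fun g hg y hy =>
      mem_inf.2 ⟨W2_norm (h.C_le' hD hg) hy.1, mul_mem (mul_mem hg hy.2) (inv_mem hg)⟩
    rw [mem_normalizer_iff]
    refine fun y => ⟨key g hg y, fun hy => ?_⟩
    have h2 := key g⁻¹ (inv_mem hg) _ hy
    have h3 : g⁻¹ * (g * y * g⁻¹) * g⁻¹⁻¹ = y := by group
    rwa [h3] at h2
  have h2 : o2 C ≤ o2 (NN ε i j) := by
    refine le_o2 ((o2_le C).trans (h.C_le hD.ij)) (o2_isPGroup C) ?_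
    intro g hg
    have h3 : g ∈ normalizer (C : Set G) := by
      have key : ∀ g ∈ NN ε i j, ∀ y ∈ C, g * y * g⁻¹ ∈ C := fun g hg y hy => cen_norm hg hy
      rw [mem_normalizer_iff]
      refine fun y => ⟨key g hg y, fun hy => ?_⟩
      have h2 := key g⁻¹ (inv_mem hg) _ hy
      have h3 : g⁻¹ * (g * y * g⁻¹) * g⁻¹⁻¹ = y := by group
      rwa [h3] at h2
    exact Cfsg.Agent.Omega.NSix.End.Six.norm_o2 C h3
  exact h2 (h1 (mem_inf.2 ⟨hx, hc⟩))

/-- `[C_G(U_ij), W_kl] ≤ Q_ij` -/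
theorem cw (hD : D4 i j k l) {c : G} (hc : c ∈ centralizer (UU ε i j : Set G)) {x : G} (hx : x ∈ W2 ε k l) :
    cm c x ∈ o2 (NN ε i j) := by
  have hxN : x ∈ NN ε i j := h.Q_le hD (h.W2_leQ hD.kl hx)
  refine h.inf_le hD ?_ ?_
  · exact mul_mem (W2_norm (h.C_le' hD hc) hx) (inv_mem hx)
  · have h2 := cen_norm hxN (inv_mem hc)
    have e : cm c x = c * (x * c⁻¹ * x⁻¹) := by unfold cm; group
    rw [e]
    exact mul_mem hc h2

/-- `C_G(U_ij U_kl)` -/
abbrev OO (ε : (Fin n → ZMod 2) → G) (i j k l : Fin n) : Subgroup G :=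
  centralizer (UU ε i j : Set G) ⊓ centralizer (UU ε k l : Set G)

omit h in
theorem OO_norm [Finite G] {g : G} (h1 : g ∈ NN ε i j) (h2 : g ∈ NN ε k l) :
    g ∈ normalizer (OO ε i j k l : Set G) :=
  DiCoreAbs.mem_norm_of fun _ hx => mem_inf.2 ⟨cen_norm h1 hx.1, cen_norm h2 hx.2⟩

omit h in
theorem OO_acts [Finite G] {g : G} {σ : Equiv.Perm (Fin n)} (hg : Acts ε g σ)
    (hσ : ∀ c, c ∈ OO ε i j k l → g * c * g⁻¹ ∈ OO ε i j k l) : g ∈ normalizer (OO ε i j k l : Set G) :=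
  DiCoreAbs.mem_norm_of hσ

/-- `W_kl ^ N_ij` and `Q_ij` -/
def FF (ε : (Fin n → ZMod 2) → G) (i j k l : Fin n) : Set G :=
  {x | ∃ g ∈ NN ε i j, ∃ w ∈ W2 ε k l, x = g * w * g⁻¹} ∪ {x | x ∈ o2 (NN ε i j)}

theorem gen_le [Finite G] (hD : D4 i j k l) :
    (P : Set G) ⊆ closure (FF ε i j k l ∪ (normalizer (OO ε i j k l : Set G) : Set G)) := by
  set K₀ := closure (FF ε i j k l ∪ (normalizer (OO ε i j k l : Set G) : Set G)) with hK₀
  let H : Subgroup (Equiv.Perm (Fin n)) :=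
    { carrier := {p | ∃ g ∈ K₀, Acts ε g p}
      one_mem' := ⟨1, one_mem _, Acts.one⟩
      mul_mem' := by
        rintro p q ⟨g, hg, hi⟩ ⟨g', hg', hi'⟩
        exact ⟨g * g', mul_mem hg hg', hi.mul hi'⟩
      inv_mem' := by
        rintro p ⟨g, hg, hi⟩
        exact ⟨g⁻¹, inv_mem hg, hi.inv⟩ }
  have e1 : ∀ a b, a ≠ i → a ≠ j → b ≠ i → b ≠ j → a ≠ b → Equiv.swap a b ∈ H := by
    intro a b ha1 ha2 hb1 hb2 hab
    obtain ⟨w, hw, hwi⟩ := h.exists_w hD.kl
    obtain ⟨σ, h1, h2, h3⟩ := exists_perm hD.kl hab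
    obtain ⟨g, -, hg⟩ := h.ev.full σ
    have hgN : g ∈ NN ε i j := by
      rw [mem_NN', rr_conj hg, h3 i hD.ik hD.il ha1.symm hb1.symm, h3 j hD.jk hD.jl ha2.symm hb2.symm]
    refine ⟨g * w * g⁻¹, subset_closure (Or.inl (Or.inl ⟨g, hgN, w, hw, rfl⟩)), ?_⟩
    have h4 := hg.conj hwi
    rwa [← Equiv.swap_apply_apply, h1, h2] at h4
  have e2 : Equiv.swap i j ∈ H := by
    obtain ⟨g, -, hg⟩ := h.ev.full (Equiv.swap i j)
    refine ⟨g, subset_closure (Or.inr (OO_acts hg fun c hc => mem_inf.2 ⟨?_, ?_⟩)), hg⟩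
    · have h1 := cen_conj hg hc.1
      rwa [Equiv.swap_apply_left, Equiv.swap_apply_right, UU_symm h.ev] at h1
    · have h1 := cen_conj hg hc.2
      rwa [Equiv.swap_apply_of_ne_of_ne hD.ik.symm hD.jk.symm,
        Equiv.swap_apply_of_ne_of_ne hD.il.symm hD.jl.symm] at h1
  have t1 : (Equiv.swap i k * Equiv.swap j l) i = k := by
    rw [Equiv.Perm.mul_apply, Equiv.swap_apply_of_ne_of_ne hD.ij hD.il, Equiv.swap_apply_left]
  have t2 : (Equiv.swap i k * Equiv.swap j l) j = l := by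
    rw [Equiv.Perm.mul_apply, Equiv.swap_apply_left, Equiv.swap_apply_of_ne_of_ne hD.il.symm hD.kl.symm]
  have t3 : (Equiv.swap i k * Equiv.swap j l) k = i := by
    rw [Equiv.Perm.mul_apply, Equiv.swap_apply_of_ne_of_ne hD.jk.symm hD.kl, Equiv.swap_apply_right]
  have t4 : (Equiv.swap i k * Equiv.swap j l) l = j := by
    rw [Equiv.Perm.mul_apply, Equiv.swap_apply_right, Equiv.swap_apply_of_ne_of_ne hD.ij.symm hD.jk]
  have e3 : Equiv.swap i k * Equiv.swap j l ∈ H := by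
    obtain ⟨g, -, hg⟩ := h.ev.full (Equiv.swap i k * Equiv.swap j l)
    refine ⟨g, subset_closure (Or.inr (OO_acts hg fun c hc => mem_inf.2 ⟨?_, ?_⟩)), hg⟩
    · have h1 := cen_conj hg hc.2
      rwa [t3, t4] at h1
    · have h1 := cen_conj hg hc.1
      rwa [t1, t2] at h1
  obtain ⟨m, hmi, hmj, hmk, hml⟩ := exists_fifth h.n5 i j k l
  have e4 : Equiv.swap i m ∈ H := by
    have h1 := H.mul_mem (H.mul_mem e3 (e1 k m hD.ik.symm hD.jk.symm hmi hmj hmk.symm)) (H.inv_mem e3)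
    rw [← Equiv.swap_apply_apply, t3, Equiv.Perm.mul_apply, Equiv.swap_apply_of_ne_of_ne hmj hml,
      Equiv.swap_apply_of_ne_of_ne hmi hmk] at h1
    exact h1
  have e5 : ∀ a, Equiv.swap i a ∈ H := by
    intro a
    by_cases hai : a = i
    · rw [hai, Equiv.swap_self]; exact one_mem H
    by_cases haj : a = j
    · rw [haj]; exact e2
    by_cases ham : a = m
    · rw [ham]; exact e4
    exact SubmonoidClass.swap_mem_trans H e4 (e1 m a hmi hmj hai haj (Ne.symm ham))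
  have hH : H = ⊤ := by
    rw [eq_top_iff, ← Equiv.Perm.closure_isSwap, closure_le]
    rintro _ ⟨a, b, -, rfl⟩
    refine SubmonoidClass.swap_mem_trans H (b := i) ?_ (e5 b)
    rw [Equiv.swap_comm]
    exact e5 a
  intro x hx
  obtain ⟨p, hp⟩ := h.ev.perm x hx
  obtain ⟨g, hg, hi⟩ : p ∈ H := by rw [hH]; exact mem_top _
  have h1 := hp.mul hi.inv
  rw [mul_inv_cancel] at h1
  have h3 : x * g⁻¹ ∈ K₀ := subset_closure (Or.inr (OO_acts h1 fun c hc =>
    mem_inf.2 ⟨cen_conj h1 hc.1, cen_conj h1 hc.2⟩))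
  have h4 := mul_mem h3 hg
  rwa [inv_mul_cancel_right] at h4

/-- **(2.4)**: an element of `O₂(C_G(r_ab))` centralising `U_ij` and `U_kl` is in `O₂(C_G(r_ij))` -/
theorem core_gen [Finite G] (hD : D4 i j k l) {a b : Fin n} (hab : a ≠ b) {c : G}
    (hc : c ∈ o2 (NN ε a b)) (h1 : ∀ y ∈ UU ε i j, c * y = y * c) (h2 : ∀ y ∈ UU ε k l, c * y = y * c) :
    c ∈ o2 (NN ε i j) := by
  obtain ⟨σ, s1, s2, -⟩ := exists_perm hD.ij hab
  obtain ⟨p, hp, hps⟩ := h.ev.full σ
  have hf : p⁻¹ * c * p ∈ o2 (NN ε i j) := by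
    have h3 := o2_NN_conj hps.inv hc
    have e : ∀ m, σ⁻¹ (σ m) = m := fun m => σ.symm_apply_apply m
    rwa [← s1, ← s2, e, e, inv_inv] at h3
  obtain ⟨q, hq⟩ := o2_isPGroup _ ⟨c, hc⟩
  have hk' : c ^ 2 ^ q = 1 := congrArg Subtype.val hq
  have hCi : ∀ {x : G}, x ∈ OO ε i j k l → x ∈ NN ε k l := fun hx =>
    h.C_le hD.kl hx.2
  refine DiCoreAbs.core_abs (N := NN ε i j) (C := centralizer (UU ε i j : Set G)) (O := OO ε i j k l)
    (L := P) (F := FF ε i j k l) (l := p) (f := p⁻¹ * c * p) (c := c) (k := q) (h.C_le hD.ij) ?_ inf_le_left ?_ ?_ ?_ ?_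
    (h.gen_le hD) hp (Or.inr hf) (by group) ?_ hk'
  · intro g hg
    exact DiCoreAbs.mem_norm_of fun x hx => cen_norm hg hx
  · intro g hg
    exact OO_norm (h.C_le hD.ij hg) (h.C_le' hD hg)
  · intro g hg
    refine OO_norm (o2_le _ hg) ?_
    exact h.Q_le ⟨hD.kl, hD.ik.symm, hD.jk.symm, hD.il.symm, hD.jl.symm, hD.ij⟩ hg
  · rintro _ (⟨g, hg, w, hw, rfl⟩ | hx)
    · exact mul_mem (mul_mem hg (h.Q_le hD (h.W2_leQ hD.kl hw))) (inv_mem hg)
    · exact o2_le _ hx
  · rintro _ (⟨g, hg, w, hw, rfl⟩ | hx) c hc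
    · have hc' : g⁻¹ * c * g ∈ centralizer (UU ε i j : Set G) := by
        have := cen_norm (inv_mem hg) hc.1
        rwa [inv_inv] at this
      set c' := g⁻¹ * c * g with hc'd
      have h3 : w * c' * w⁻¹ * c'⁻¹ ∈ o2 (NN ε i j) := by
        have h4 := inv_mem (h.cw hD hc' hw)
        have h5 : (cm c' w)⁻¹ = w * c' * w⁻¹ * c'⁻¹ := by unfold cm; group
        rwa [h5] at h4
      have h4 := (mem_normalizer_iff.1 (le_normalizer_o2 _ hg) _).1 h3
      have h5 : g * (w * c' * w⁻¹ * c'⁻¹) * g⁻¹ = g * w * g⁻¹ * c * (g * w * g⁻¹)⁻¹ * c⁻¹ := by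
        rw [hc'd]; group
      rwa [h5] at h4
    · rename_i x
      have h3 := (mem_normalizer_iff.1 (le_normalizer_o2 _ (h.C_le hD.ij hc.1)) _).1 (inv_mem hx)
      have h4 : x * c * x⁻¹ * c⁻¹ = x * (c * x⁻¹ * c⁻¹) := by group
      rw [h4]
      exact mul_mem hx h3
  · exact mem_inf.2 ⟨mem_centralizer_iff.2 fun y hy => (h1 y hy).symm,
      mem_centralizer_iff.2 fun y hy => (h2 y hy).symm⟩

/-- `(H2)` from the commuting of disjoint `UU`'s -/
theorem hq_of_comm [Finite G] (hcomm : ∀ {i j k l : Fin n}, D4 i j k l → ∀ u ∈ UU ε i j, ∀ y ∈ UU ε k l, u * y = y * u)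
    (hD : D4 i j k l) : UU ε i j ≤ o2 (NN ε k l) := by
  intro u hu
  have hD' : D4 k l i j := ⟨hD.kl, hD.ik.symm, hD.jk.symm, hD.il.symm, hD.jl.symm, hD.ij⟩
  exact h.core_gen hD' hD.ij (h.UQ hD.ij hu) (fun y hy => hcomm hD u hu y hy)
    (fun y hy => h.Uab hD.ij hu hy)

/-- one non-commuting pair makes all of them non-commuting -/
theorem comm_transfer {a b c d : Fin n} (hD : D4 i j k l) (hD' : D4 a b c d)
    (hcomm : ∀ u ∈ UU ε i j, ∀ y ∈ UU ε k l, u * y = y * u) :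
    ∀ u ∈ UU ε a b, ∀ y ∈ UU ε c d, u * y = y * u := by
  -- a permutation with `a ↦ i`, `b ↦ j`, `c ↦ k`, `d ↦ l`
  obtain ⟨σ, s1, s2, -⟩ := exists_perm hD'.ij hD.ij
  have hc1 : σ c ≠ i := fun e => hD'.ik (σ.injective (s1.trans e.symm))
  have hc2 : σ c ≠ j := fun e => hD'.jk (σ.injective (s2.trans e.symm))
  have hd1 : σ d ≠ i := fun e => hD'.il (σ.injective (s1.trans e.symm))
  have hd2 : σ d ≠ j := fun e => hD'.jl (σ.injective (s2.trans e.symm))
  have hcd : σ c ≠ σ d := fun e => hD'.kl (σ.injective e)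
  obtain ⟨τ, t1, t2, t3⟩ := exists_perm hcd hD.kl
  have ti : τ i = i := t3 i hc1.symm hd1.symm hD.ik hD.il
  have tj : τ j = j := t3 j hc2.symm hd2.symm hD.jk hD.jl
  obtain ⟨g, -, hg⟩ := h.ev.full (τ * σ)
  have m1 : (τ * σ) a = i := by rw [Equiv.Perm.mul_apply, s1, ti]
  have m2 : (τ * σ) b = j := by rw [Equiv.Perm.mul_apply, s2, tj]
  have m3 : (τ * σ) c = k := by rw [Equiv.Perm.mul_apply, t1]
  have m4 : (τ * σ) d = l := by rw [Equiv.Perm.mul_apply, t2]
  intro u hu y hy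
  have h1 := UU_conj hg hu
  have h2 := UU_conj hg hy
  rw [m1, m2] at h1
  rw [m3, m4] at h2
  have h3 := hcomm _ h1 _ h2
  have h4 : g * (u * y) * g⁻¹ = g * (y * u) * g⁻¹ := by
    calc g * (u * y) * g⁻¹ = g * u * g⁻¹ * (g * y * g⁻¹) := by group
      _ = _ := h3
      _ = _ := by group
  exact mul_left_cancel (mul_right_cancel h4)

/-- **the instance** -/
theorem fr [Finite G] {w : Fin n → Fin n → G}
    (hw : ∀ i j, i ≠ j → w i j ∈ W2 ε i j ∧ Acts ε (w i j) (Equiv.swap i j)) :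
    Fr ε (UU ε) (W2 ε) (fun i j => o2 (NN ε i j)) w where
  add := h.ev.add
  eU := fun hij x => h.eU hij x
  cU := fun hg _ _ _ x hx => UU_conj hg hx
  cW := fun hg _ _ _ x hx => W2_conj hg hx
  cQ := fun hg _ _ _ x hx => o2_NN_conj hg hx
  Usym := UU_symm h.ev
  Wsym := W2_symm h.ev
  Qsym := fun i j => by rw [NN_symm h.ev]
  UK := fun hij => h.UK hij
  QA := fun hij q hq => h.QA hij hq
  Uab := fun hij u hu v hv => h.Uab hij hu hv
  Usq := fun hij u hu => h.Usq hij hu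
  UQ := fun hij => h.UQ hij
  UQc := fun hij q hq u hu => h.UQc hij hq hu
  WQ := fun hij => h.W2_leQ hij
  QW := fun hij q hq x hx => h.wp_cases hij hq (W2_le _ _ hx)
  Wsq := fun hij x hx => h.W2_sq hij hx
  wW := fun hij => (hw _ _ hij).1
  wA := fun hij => (hw _ _ hij).2
  cw := fun hD c hc x hx => h.cw hD (mem_centralizer_iff.2 fun y hy => (hc y hy).symm) hx
  core := fun hD c hc h1 h2 => h.core_gen hD hD.jk (h.W2_leQ hD.jk hc) h1 h2
  inter := fun x hx => h.inter hx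

theorem exists_fr [Finite G] : ∃ w, Fr ε (UU ε) (W2 ε) (fun i j => o2 (NN ε i j)) w := by
  classical
  refine ⟨fun i j => if hij : i ≠ j then (h.exists_w hij).choose else 1, h.fr fun i j hij => ?_⟩
  rw [dif_pos hij]
  exact (h.exists_w hij).choose_spec

/-- **THEOREM C** -/
theorem thC [Finite G] : ThC ε (UU ε) := by
  obtain ⟨w, F⟩ := h.exists_fr
  intro i j k hij hki hkj u hu hc
  obtain ⟨m, hmi, hmj, hmk, -⟩ := exists_fifth h.n5 i j k k
  exact (F.thmC' ⟨hij, hki.symm, hmi.symm, hkj.symm, hmj.symm, hmk.symm⟩ hu hc).2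

end Hyp

/-- the minimality of `V` -/
theorem min_of [Finite G] (hn : 3 ≤ n) (hodd : Odd n) (h : EvenSet n V P ε) (S : Sylow 2 G)
    (hS : (S : Subgroup G) ≤ P) (hZ : zc (S : Subgroup G) ≤ V) (A : Subgroup G)
    (hA : ∀ g ∈ P, ∀ a ∈ A, g * a * g⁻¹ ∈ A) (hA2 : ∀ a ∈ A, a * a = 1) (hAne : A ≠ ⊥) : V ≤ A := by
  have h2 : Fact (Nat.Prime 2) := ⟨Nat.prime_two⟩
  have hAp : IsPGroup 2 A := by
    intro a
    refine ⟨1, ?_⟩
    rw [pow_one, pow_two]
    exact Subtype.ext (hA2 a a.2)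
  -- a fixed point of `S`
  let act : MulAction (S : Subgroup G) A :=
    { smul := fun s a => ⟨(s : G) * a * (s : G)⁻¹, hA s (hS s.2) a a.2⟩
      one_smul := fun a => Subtype.ext (by change (1 : G) * a * (1 : G)⁻¹ = a; group)
      mul_smul := fun s t a => Subtype.ext (by
        change ((s : G) * t) * a * ((s : G) * t)⁻¹ = (s : G) * (t * a * (t : G)⁻¹) * (s : G)⁻¹
        group) }
  have hdvd : 2 ∣ Nat.card A := by
    rcases hAp.card_eq_or_dvd with h1 | h1
    · exact absurd ((card_eq_one (H := A)).mp h1) hAne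
    · exact h1
  have hfix1 : (1 : A) ∈ MulAction.fixedPoints (S : Subgroup G) A := by
    intro s
    exact Subtype.ext (by change (s : G) * 1 * (s : G)⁻¹ = 1; group)
  obtain ⟨a, haf, hane⟩ := S.isPGroup'.exists_fixed_point_of_prime_dvd_card_of_fixed_point A
    hdvd hfix1
  have hac : ∀ s ∈ (S : Subgroup G), s * (a : G) = a * s := by
    intro s hs
    have h1 := congrArg Subtype.val (haf ⟨s, hs⟩)
    have h3 : s * (a : G) * s⁻¹ = a := h1
    exact mul_inv_eq_iff_eq_mul.mp h3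
  have hane' : (a : G) ≠ 1 := fun h1 => hane (Subtype.ext h1).symm
  have haS : (a : G) ∈ (S : Subgroup G) := by
    refine MinPar.le_of_le_normalizer S hAp (fun s hs => ?_) a.2
    rw [mem_normalizer_iff]
    refine fun x => ⟨hA s (hS hs) x, fun hx => ?_⟩
    have h1 := hA s⁻¹ (inv_mem (hS hs)) _ hx
    have h3 : s⁻¹ * (s * x * s⁻¹) * s⁻¹⁻¹ = x := by group
    rwa [h3] at h1
  have haV : (a : G) ∈ V := hZ (mem_zc.mpr ⟨haS, hac, by rw [pow_two]; exact hA2 a a.2⟩)
  -- all pairs are in `A`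
  obtain ⟨x, hx⟩ := h.surj a haV
  have hx01 : ¬ (x = 0 ∨ x = 1) := fun h1 => hane' (by rw [← hx]; exact (h.ker x).mpr h1)
  obtain ⟨i, j, hxij⟩ : ∃ i j, x i ≠ x j := by
    by_contra hc
    push Not at hc
    apply hx01
    have i0 : Fin n := ⟨0, by omega⟩
    rcases Tv.z2 (x i0) with h1 | h1
    · left; funext k; rw [hc k i0, h1]; rfl
    · right; funext k; rw [hc k i0, h1]; rfl
  have hij : i ≠ j := fun h1 => hxij (by rw [h1])
  have hrA : rr ε i j ∈ A := by
    obtain ⟨p, hp, hps⟩ := h.full (Equiv.swap i j)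
    have h1 := hA p hp a a.2
    have h3 : p * (a : G) * p⁻¹ = a * rr ε i j := by
      rw [← hx, hps x]
      have h4 : x ∘ (Equiv.swap i j).symm = x + (Pi.single i 1 + Pi.single j 1) := by
        have h5 : x j = x i + 1 := z2_ne _ _ hxij
        have h5' : x i = x j + 1 := z2_ne _ _ hxij.symm
        funext k
        rw [Function.comp_apply, Equiv.symm_swap, Pi.add_apply, Pi.add_apply]
        by_cases h1 : k = i
        · rw [h1, Equiv.swap_apply_left, Pi.single_eq_same, Pi.single_eq_of_ne hij, add_zero, h5]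
        by_cases h2 : k = j
        · rw [h2, Equiv.swap_apply_right, Pi.single_eq_same, Pi.single_eq_of_ne hij.symm,
            zero_add, h5']
        · rw [Equiv.swap_apply_of_ne_of_ne h1 h2, Pi.single_eq_of_ne h1, Pi.single_eq_of_ne h2,
            add_zero, add_zero]
      rw [h4, h.add, h.add]
      rfl
    have h4 := mul_mem (inv_mem a.2) h1
    rwa [h3, inv_mul_cancel_left] at h4
  have hall : ∀ k l, k ≠ l → rr ε k l ∈ A := by
    intro k l hkl
    obtain ⟨σ, h1, h3, -⟩ := exists_perm hij hkl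
    obtain ⟨p, hp, hps⟩ := h.full σ
    have h4 := hA p hp _ hrA
    rwa [rr_conj hps, h1, h3] at h4
  have hz : ∀ k, zz ε k ∈ A := by
    intro k
    obtain ⟨j, hj⟩ : ∃ j, k ≠ j := by
      have : Nontrivial (Fin n) := Fin.nontrivial_iff_two_le.2 (by omega)
      obtain ⟨j, hj⟩ := exists_ne k
      exact ⟨j, hj.symm⟩
    have h1 := compl_rr h hj (fun t x => x ∈ V ∧ x * zz ε k ^ t ∈ A)
      ⟨one_mem _, by rw [one_mul, pow_zero]; exact one_mem _⟩ (by
      rintro l h1 h3 t x ⟨hxV, hxA⟩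
      refine ⟨mul_mem (zz_mem h l) hxV, ?_⟩
      have h4 := mul_mem (hall l k h1) hxA
      have h5 : zz ε l * x * zz ε k ^ (t + 1) = rr ε l k * (x * zz ε k ^ t) := by
        have h6 : zz ε k * x = x * zz ε k := h.comm_mem (zz_mem h k) hxV
        unfold rr
        calc zz ε l * x * zz ε k ^ (t + 1) = zz ε l * (x * zz ε k) * zz ε k ^ t := by
              rw [pow_succ']; group
          _ = zz ε l * (zz ε k * x) * zz ε k ^ t := by rw [h6]
          _ = _ := by group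
      rwa [h5])
    obtain ⟨-, h3⟩ := h1
    have h4 : zz ε k ^ (n - 2) = zz ε k := by
      obtain ⟨t, ht⟩ := hodd
      have h5 : n - 2 = 2 * (t - 1) + 1 := by omega
      rw [h5, pow_succ, pow_mul, pow_two, zz_sq h, one_pow, one_mul]
    rw [h4] at h3
    have h5 := mul_mem (inv_mem (hall k j hj)) h3
    rwa [inv_mul_cancel_left] at h5
  intro v hv
  obtain ⟨y, rfl⟩ := h.surj v hv
  have key : ∀ F : Finset (Fin n), ε (∑ k ∈ F, Pi.single k 1) ∈ A := by
    intro F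
    induction F using Finset.induction_on with
    | empty => rw [Finset.sum_empty, h.zero]; exact one_mem _
    | insert k F hk ih =>
      rw [Finset.sum_insert hk, h.add]
      exact mul_mem (hz k) ih
  have h1 : y = ∑ k ∈ Finset.univ.filter (fun k => y k ≠ 0), Pi.single k 1 := by
    funext m'
    rw [Finset.sum_apply]
    by_cases hm' : y m' = 0
    · rw [hm', Finset.sum_eq_zero]
      intro k hk
      have : m' ≠ k := by
        rintro rfl
        exact (Finset.mem_filter.mp hk).2 hm'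
      exact Pi.single_eq_of_ne this _
    · rw [Finset.sum_eq_single m']
      · rw [Pi.single_eq_same]; exact Tv.z2_one hm'
      · intro k _ hk
        exact Pi.single_eq_of_ne (Ne.symm hk) _
      · intro h0
        exfalso
        apply h0
        rw [Finset.mem_filter]
        exact ⟨Finset.mem_univ _, hm'⟩
  rw [h1]
  exact key _

/-- **the hypotheses in a group of characteristic 2 type** -/
theorem Hyp.of [Finite G] (hG : IsCharacteristicTwoType G) (hn : 5 ≤ n) (hodd : Odd n)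
    (h : EvenSet n V P ε) (S : Sylow 2 G) (hS : (S : Subgroup G) ≤ P) (hZ : zc (S : Subgroup G) ≤ V)
    (hpair : ∀ i j k, i ≠ j → k ≠ i → k ≠ j → ∀ q ∈ o2 (NN ε i j), q * zz ε k = zz ε k * q)
    (hle : ∀ i j, i ≠ j → o2 (NN ε i j) ≤ P)
    (hN : ∃ i j, i ≠ j ∧ ∃ g ∈ WP ε i j, g * g ∈ zpowers (rr ε i j) ∧ ¬ g ∈ centralizer (V : Set G)) :
    Hyp V P ε where
  n5 := hn
  odd := hodd
  ev := h
  pair := hpair
  le := hle
  stab := fun i j hij g hg => mem_o2_of_stab hG (rr_sq h i j) (rr_ne_one h (by omega) hij) hg.1 hg.2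
  min := min_of (by omega) hodd h S hS hZ
  mov := hN

end Cfsg.Agent.Omega.NSix.Engine
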