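import Cfsg.Agent.Omega.NSix.Engine.Sigma

/-!
# #15755 (6) (helper480) over the frame `Fr`: the forms `β_k`

`be w j k y z = [y, z^{w_jk}]` for `y`, `z ∈ U i j`, `k` a third label:
* `be_lab` : in `Σ_ijk`; `be_mul_left`, `be_mul_right`, `be_self`, `be_symm` : alternating, bimultiplicative, symmetric;
* `be_indep` : independent of the choice of `w j k`; `be_swap` : `β` via `w j k` = `β` via `w i k`; `be_cj` : equivariant;
* `be_rad` : radical = `C(U i k)`;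
* `gam` : `γ_kl(y,z) β_k(y,z) β_l(y,z) ∈ ⟨z_k, z_l⟩ Σ_ijkl`;
* `jacobi`; `be_W` : `a ∈ U_ij ∩ W_kl ⇒ β_k(a,y) ∈ ⟨z_l⟩ Σ_ijkl`; `be_w` : `β_k(z,y) ≡ β_k(z^{w_kl}, y)`.
-/

set_option autoImplicit false
set_option linter.unusedSectionVars false

namespace Cfsg.Agent.Omega.NSix.Engine

open Subgroup Cfsg.Agent.Omega.S5.Def Cfsg.Agent.Omega.NSix.Base
open Cfsg.Agent.Omega.TTn.Di (cm cj cj_mul cj_inv cj_cj cj_one cj_eq_of_comm comm_of_cj cj_eq_cm cm_eq
  cm_one_iff cm_eq')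

universe u

variable {G : Type u} [Group G] {n : ℕ}

theorem cm_mul_left (x y z : G) : cm (x * y) z = cj x (cm y z) * cm x z := by unfold cm cj; group

theorem cm_mul_right (x y z : G) : cm x (y * z) = cm x y * cj y (cm x z) := by unfold cm cj; group

theorem cj_cm (g x y : G) : cj g (cm x y) = cm (cj g x) (cj g y) := by unfold cm cj; group

theorem cm_inv' (x y : G) : (cm x y)⁻¹ = cm y x := by unfold cm; group

/-- `β_k(y,z) = [y, z^{w_jk}]` -/
def be (w : Fin n → Fin n → G) (j k : Fin n) (y z : G) : G := cm y (cj (w j k) z)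

namespace Fr

variable {ε : (Fin n → ZMod 2) → G} {U W Q : Fin n → Fin n → Subgroup G} {w : Fin n → Fin n → G}
  (F : Fr ε U W Q w) {i j k l m : Fin n}

include F

/-- the symmetric form of `w1` -/
theorem w1' (hij : i ≠ j) (hki : k ≠ i) (hkj : k ≠ j) {u : G} (hu : u ∈ U i j) : cj (w j k) u ∈ U i k := by
  rw [F.Usym]
  exact F.w1 hkj.symm hij hki.symm (F.Usym i j ▸ hu)

theorem w2' (hij : i ≠ j) (hki : k ≠ i) (hkj : k ≠ j) {u : G} (hu : u ∈ U i k) : cj (w j k) u ∈ U i j := by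
  rw [F.Usym]
  exact F.w2 hkj.symm hij hki.symm (F.Usym i k ▸ hu)

theorem cjK (hij : i ≠ j) {u : G} (hu : u ∈ KK ε) : cj (w i j) u ∈ KK ε := KK_conj (F.wA hij) hu

omit F in
theorem cjKK {g u : G} (hg : g ∈ KK ε) (hu : u ∈ KK ε) : cj g u ∈ KK ε := KK_conj (mem_KK.1 hg) hu

theorem be_lab (hij : i ≠ j) (hki : k ≠ i) (hkj : k ≠ j) {y z : G} (hy : y ∈ U i j) (hz : z ∈ U i j) :
    be w j k y z ∈ U i j ∧ be w j k y z ∈ U i k := by
  have h1 := F.w1' hij hki hkj hz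
  exact ⟨F.cm_left hij hy (F.UK hki.symm h1), F.cm_right hki.symm (F.UK hij hy) h1⟩

theorem be_mul_left (hij : i ≠ j) (hki : k ≠ i) (hkj : k ≠ j) {x y z : G} (hx : x ∈ U i j) (hy : y ∈ U i j)
    (hz : z ∈ U i j) : be w j k (x * y) z = be w j k x z * be w j k y z := by
  have h1 := (F.be_lab hij hki hkj hy hz).1
  have h2 := (F.be_lab hij hki hkj hx hz).1
  unfold be at h1 h2 ⊢
  rw [cm_mul_left, cj_eq_of_comm (F.Uab hij _ hx _ h1), F.Uab hij _ h1 _ h2]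

theorem be_mul_right (hij : i ≠ j) (hki : k ≠ i) (hkj : k ≠ j) {x y z : G} (hx : x ∈ U i j) (hy : y ∈ U i j)
    (hz : z ∈ U i j) : be w j k x (y * z) = be w j k x y * be w j k x z := by
  have h1 := (F.be_lab hij hki hkj hx hz).2
  have h2 := F.w1' hij hki hkj hy
  unfold be at h1 ⊢
  rw [cj_mul, cm_mul_right, cj_eq_of_comm (F.Uab hki.symm _ h2 _ h1)]

theorem be_self (hij : i ≠ j) (hki : k ≠ i) (hkj : k ≠ j) {y : G} (hy : y ∈ U i j) : be w j k y y = 1 :=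
  cm_one_iff.2 (F.alt hij hki hkj hy)

theorem be_symm (hij : i ≠ j) (hki : k ≠ i) (hkj : k ≠ j) {y z : G} (hy : y ∈ U i j) (hz : z ∈ U i j) :
    be w j k y z = be w j k z y := by
  have h := F.be_self hij hki hkj (mul_mem hy hz)
  rw [F.be_mul_left hij hki hkj hy hz (mul_mem hy hz), F.be_mul_right hij hki hkj hy hy hz,
    F.be_mul_right hij hki hkj hz hy hz, F.be_self hij hki hkj hy, F.be_self hij hki hkj hz, one_mul, mul_one] at h
  rw [mul_eq_one_iff_eq_inv.1 h]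
  exact F.inv_self hij (F.be_lab hij hki hkj hz hy).1

theorem be_one_left (j k : Fin n) (z : G) : be w j k 1 z = 1 := by unfold be cm; group

theorem be_one_right (j k : Fin n) (y : G) : be w j k y 1 = 1 := by unfold be cm cj; group

/-- `β_k(y,z)` does not depend on the choice of `w j k` -/
theorem be_indep (hij : i ≠ j) (hki : k ≠ i) (hkj : k ≠ j) {y z : G} (hy : y ∈ U i j) (hz : z ∈ U i j)
    {g : G} (hg : g ∈ Q j k) (hA : Acts ε g (Equiv.swap j k)) : cm y (cj g z) = be w j k y z := by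
  have hjk := hkj.symm
  set c := (w j k)⁻¹ * g with hc
  have hcQ : c ∈ Q j k := mul_mem (inv_mem (F.WQ hjk (F.wW hjk))) hg
  have hcK : c ∈ KK ε := by
    have h := (F.wA hjk).inv.mul hA
    rw [inv_mul_cancel] at h
    exact h
  obtain ⟨h1, h2⟩ := F.uq hjk hij hki.symm (F.Usym i j ▸ hz) hcQ hcK
  set p := z⁻¹ * cj c z with hp
  have e1 : cj g z = cj (w j k) z * cj (w j k) p := by
    rw [← cj_mul, hp, mul_inv_cancel_left, cj_cj, hc, mul_inv_cancel_left]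
  have h3 : y * cj (w j k) p = cj (w j k) p * y := by
    rcases h2 with h2 | h2
    · rw [F.cj_w_self hjk h2]
      rw [F.Usym] at h1
      exact F.Uab hij _ hy _ h1
    · have h4 := F.cj_w_self hjk h2
      have h5 : cj (w j k) p = p * (zz ε k * (cj (w j k) (zz ε k))⁻¹) := by
        rw [cj_mul] at h4
        rw [← mul_assoc, ← h4]
        group
      have h6 : cj (w j k) (zz ε k) = zz ε j := by
        have := (F.wA hjk).single k
        rw [Equiv.swap_apply_right] at this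
        exact this
      rw [h5, h6]
      have h7 := F.Uab hij _ hy _ (F.Usym j i ▸ h1)
      have h8 := Kz (F.UK hij hy) k
      have h9 := Kz (F.UK hij hy) j
      rw [F.z_inv, ← mul_assoc, h7, mul_assoc p, ← mul_assoc y, h8, mul_assoc (zz ε k), h9]
      group
  rw [e1, cm_mul_right, cm_one_iff.2 h3, cj_one, mul_one]
  rfl

omit F in
theorem acts_swap_conj {g : G} {σ : Equiv.Perm (Fin n)} (hg : Acts ε g σ) {x : G} (hx : Acts ε x (Equiv.swap i j)) :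
    Acts ε (cj g x) (Equiv.swap (σ i) (σ j)) := by
  have h := hg.conj hx
  have e : σ * Equiv.swap i j * σ⁻¹ = Equiv.swap (σ i) (σ j) := by
    rw [Equiv.mul_swap_eq_swap_mul, mul_assoc, mul_inv_cancel, mul_one]
  rw [e] at h
  exact h

/-- `β_k` is equivariant -/
theorem be_cj (hij : i ≠ j) (hki : k ≠ i) (hkj : k ≠ j) {y z : G} (hy : y ∈ U i j) (hz : z ∈ U i j)
    {g : G} {σ : Equiv.Perm (Fin n)} (hg : Acts ε g σ) :
    cj g (be w j k y z) = be w (σ j) (σ k) (cj g y) (cj g z) := by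
  have h1 : cj (cj g (w j k)) (cj g z) = cj g (cj (w j k) z) := by unfold cj; group
  unfold be
  rw [cj_cm, ← h1]
  refine F.be_indep (σ.injective.ne hij) (σ.injective.ne hki) (σ.injective.ne hkj) (F.cU hg hij y hy)
    (F.cU hg hij z hz) (F.cQ hg hkj.symm _ (F.WQ hkj.symm (F.wW hkj.symm))) (acts_swap_conj hg (F.wA hkj.symm))

/-- an element of `U i k` and its conjugate under `w i j` act in the same way on `U i j` -/
theorem cm_w (hij : i ≠ j) (hki : k ≠ i) {y z : G} (hy : y ∈ U i j) (hz : z ∈ U i k) :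
    cm y (cj (w i j) z) = cm y z := by
  have h1 : cm y z ∈ U i j := F.cm_left hij hy (F.UK hki.symm hz)
  have h2 := F.cj_w_self hij h1
  rw [cj_cm, F.cj_w_self hij hy] at h2
  exact h2

/-- `β_k` with the roles of `i`, `j` exchanged -/
theorem be_swap (hij : i ≠ j) (hki : k ≠ i) (hkj : k ≠ j) {y z : G} (hy : y ∈ U i j) (hz : z ∈ U i j) :
    be w i k y z = be w j k y z := by
  have h1 : cj (w j k) z ∈ U i k := F.w1' hij hki hkj hz
  have h2 := F.cm_w hij hki hy h1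
  have h3 : cj (cj (w i j) (w j k)) z = cj (w i j) (cj (w j k) z) := by
    have h4 := F.cj_w_self hij hz
    have h5 : cj (w i j)⁻¹ z = z := by
      conv_lhs => rw [← h4]
      unfold cj; group
    have h6 : cj (cj (w i j) (w j k)) z = cj (w i j) (cj (w j k) (cj (w i j)⁻¹ z)) := by unfold cj; group
    rw [h6, h5]
  have h6 : cj (w i j) (w j k) ∈ Q i k := by
    have h := F.cQ (F.wA hij) hkj.symm _ (F.WQ hkj.symm (F.wW hkj.symm))
    rwa [Equiv.swap_apply_right, Equiv.swap_apply_of_ne_of_ne hki hkj] at h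
  have h7 : Acts ε (cj (w i j) (w j k)) (Equiv.swap i k) := by
    have h := acts_swap_conj (F.wA hij) (F.wA hkj.symm)
    rwa [Equiv.swap_apply_right, Equiv.swap_apply_of_ne_of_ne hki hkj] at h
  have h8 := F.be_indep hij.symm hkj hki (F.Usym i j ▸ hy) (F.Usym i j ▸ hz) h6 h7
  rw [← h8, h3, h2]
  rfl

/-- the radical of `β_k` is the centraliser of `U i k` -/
theorem be_rad (hij : i ≠ j) (hki : k ≠ i) (hkj : k ≠ j) {y : G} :
    (∀ z ∈ U i j, be w j k y z = 1) ↔ Cen U y i k := by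
  constructor
  · intro h x hx
    have h1 := h _ (F.w2' hij hki hkj hx)
    unfold be at h1
    rw [F.cj_w_w hkj.symm (F.UK hki.symm hx)] at h1
    exact cm_one_iff.1 h1
  · intro h z hz
    exact cm_one_iff.2 (h _ (F.w1' hij hki hkj hz))

theorem be_rad' (hC : ThC ε U) (hij : i ≠ j) (hki : k ≠ i) (hkj : k ≠ j) {y : G} (hy : y ∈ U i j)
    (h : ∀ z ∈ U i j, be w j k y z = 1) : y ∈ U i k ∨ y * zz ε k ∈ U i k :=
  hC hki.symm hij.symm hkj.symm y hy ((F.be_rad hij hki hkj).1 h)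

/-- elements of `Σ_ijk` are in the radical of `β_k` -/
theorem be_one (hij : i ≠ j) (hki : k ≠ i) (hkj : k ≠ j) {y z : G} (hy' : y ∈ U i k)
    (hz : z ∈ U i j) : be w j k y z = 1 :=
  (F.be_rad hij hki hkj).2 (F.Uab hki.symm _ hy') z hz

/-- elements of `V_ij` are in the radical of `β_k` -/
theorem be_e (hij : i ≠ j) (hki : k ≠ i) (hkj : k ≠ j) {z : G} (x : Fin n → ZMod 2)
    (hz : z ∈ U i j) : be w j k (ε x) z = 1 :=
  cm_one_iff.2 (Ke (F.UK hki.symm (F.w1' hij hki hkj hz)) x).symm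

/-- `β_k` kills `⟨z_k⟩ Σ_ijk` -/
theorem be_pp (hij : i ≠ j) (hki : k ≠ i) (hkj : k ≠ j) {y z : G} (hy : y ∈ U i j)
    (hy' : y ∈ U i k ∨ y * zz ε k ∈ U i k) (hz : z ∈ U i j) : be w j k y z = 1 := by
  rcases hy' with h | h
  · exact F.be_one hij hki hkj h hz
  · have h1 := F.be_one hij hki hkj h hz
    have h2 : be w j k (zz ε k) z = 1 := F.be_e hij hki hkj _ hz
    rwa [F.be_mul_left hij hki hkj hy (F.zU hij hki hkj) hz, h2, mul_one] at h1

/-- `a ∈ U_ij ∩ W_kl` has `β_k(a, y) ∈ ⟨z_l⟩ Σ_ijkl` -/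
theorem be_W (h : D4 i j k l) {a y : G} (ha : a ∈ U i j) (haW : a ∈ W k l) (hy : y ∈ U i j) :
    be w j k a y ∈ U i l ∨ be w j k a y * zz ε l ∈ U i l := by
  have hki := h.ik.symm
  have hkj := h.jk.symm
  have h1 := F.w1' h.ij hki hkj hy
  have h3 := F.uq h.kl h.ik h.il (F.Usym i k ▸ h1) (F.WQ h.kl haW) (F.UK h.ij ha)
  obtain ⟨-, h4⟩ := h3
  have hb := F.be_lab h.ij hki hkj ha hy
  set y' := cj (w j k) y with hy'
  have e : be w j k a y = y'⁻¹ * cj a y' := by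
    have e1 : be w j k a y = cj a y' * y'⁻¹ := rfl
    rw [e1, F.Uab hki.symm _ (F.KU hki.symm (F.UK h.ij ha) h1) _ (inv_mem h1)]
  have hb2 := F.Usym i k ▸ hb.2
  rw [← e] at h4
  rcases h4 with h4 | h4
  · left
    exact F.tri h.ik.symm h.kl.symm h.il.symm (F.Usym i k ▸ hb.2) h4
  · right
    refine F.tri h.ik.symm h.kl.symm h.il.symm ?_ h4
    rw [F.Usym]
    exact mul_mem hb.2 (F.zU h.ik h.il.symm h.kl.symm)

/-- `β_k(z,y) ≡ β_k(z^{w_kl}, y)` modulo `⟨z_l⟩ Σ_ijkl` -/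
theorem be_w (h : D4 i j k l) {z y : G} (hz : z ∈ U i j) (hy : y ∈ U i j) :
    be w j k z y * be w j k (cj (w k l) z) y ∈ U i l ∨
      be w j k z y * be w j k (cj (w k l) z) y * zz ε l ∈ U i l := by
  have h1 : cj (w k l) z ∈ U i j := F.w3 h.kl h.ik h.il h.jk h.jl h.ij hz
  rw [← F.be_mul_left h.ij h.ik.symm h.jk.symm hz h1 hy]
  exact F.be_W h (mul_mem hz h1) (F.uuw h.kl h.ij hz) hy

/-- `γ_kl(y,z) = [y, z^{w_jl w_ik}]` -/
def ga (w : Fin n → Fin n → G) (i j k l : Fin n) (y z : G) : G := cm y (cj (w i k) (cj (w j l) z))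

theorem ga_lab (h : D4 i j k l) {y z : G} (hy : y ∈ U i j) (hz : z ∈ U i j) :
    ga w i j k l y z ∈ U i j ∧ ga w i j k l y z ∈ U k l := by
  have h1 : cj (w j l) z ∈ U i l := F.w1' h.ij h.il.symm h.jl.symm hz
  have h2 : cj (w i k) (cj (w j l) z) ∈ U k l := F.w1 h.ik h.il.symm h.kl.symm h1
  exact ⟨F.cm_left h.ij hy (F.UK h.kl h2), F.cm_right h.kl (F.UK h.ij hy) h2⟩

/-- `β_l γ ∈ ⟨z_k⟩ Σ_ijk` -/
theorem gam1 (h : D4 i j k l) {y z : G} (hy : y ∈ U i j) (hz : z ∈ U i j) :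
    PP ε U i j k (be w j l y z * ga w i j k l y z) := by
  have hz' : cj (w j l) z ∈ U i l := F.w1' h.ij h.il.symm h.jl.symm hz
  obtain ⟨hg1, hg2⟩ := F.ga_lab h hy hz
  unfold be
  unfold ga at hg1 hg2 ⊢
  set z' := cj (w j l) z with hz'0
  have hz'' : cj (w i k) z' ∈ U k l := F.w1 h.ik h.il.symm h.kl.symm hz'
  set z'' := cj (w i k) z' with hz''0
  have hyK := F.UK h.ij hy
  have hzK := F.UK h.il hz'
  have ht : z' * z'' ∈ W i k := F.uuw h.ik h.il hz'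
  have hy1 : cj (w i k) y ∈ U k j := F.w1 h.ik h.ij.symm h.jk hy
  have hyy : y * cj (w i k) y ∈ W i k := F.uuw h.ik h.ij hy
  have hq := F.QW h.ik _ (F.WQ h.ik hyy) _ ht
  rw [cm_mul_left] at hq
  have hcomm : z' * z'' = z'' * z' := F.alt h.il.symm h.kl h.ik.symm (F.Usym i l ▸ hz')
  have e1 : cj (w i k) (z' * z'') = z' * z'' := by
    rw [cj_mul, ← hz''0]
    conv_lhs => rw [hz''0, F.cj_w_w h.ik hzK]
    rw [← hz''0, ← hcomm]
  have e2 : cm (cj (w i k) y) (z' * z'') = cj (w i k) (cm y (z' * z'')) := by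
    rw [cj_cm, e1]
  rw [e2] at hq
  have hθ : cm y (z' * z'') ∈ U i j := F.cm_left h.ij hy (mul_mem hzK (F.UK h.kl hz''))
  have hθ1 : cj (w i k) (cm y (z' * z'')) ∈ U k j := F.w1 h.ik h.ij.symm h.jk hθ
  have hθ2 : cj y (cj (w i k) (cm y (z' * z''))) ∈ U k j := F.KU h.jk.symm hyK hθ1
  have hpp : PP ε U i j k (cm y (z' * z'')) := by
    refine F.pp_of h.ik h.ij.symm h.jk hθ (inv_mem hθ2) hq ?_
    have hc := F.UK h.ij hθ
    have e3 : cj y (cj (w i k) (cm y (z' * z''))) * cm y (z' * z'') *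
        (cj y (cj (w i k) (cm y (z' * z''))))⁻¹ = cm y (z' * z'') := by
      have hA := F.UK h.jk.symm hθ2
      rcases hq with hq | hq
      · rw [hq, one_mul]
        exact (eq_inv_of_mul_eq_one_right hq).symm
      · have h1 : cm y (z' * z'') = (cj y (cj (w i k) (cm y (z' * z''))))⁻¹ * rr ε i k := by
          rw [← hq, inv_mul_cancel_left]
        rw [hq]
        conv_rhs => rw [h1]
        exact (Kr (inv_mem hA) i k).symm
    exact e3.symm
  have e4 : cm y (z' * z'') = cm y z' * cj z' (cm y z'') := cm_mul_right _ _ _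
  have e5 : cj z' (cm y z'') = cm z' (cm y z'') * cm y z'' := cj_eq_cm _ _
  have hs1 : cm z' (cm y z'') ∈ U i j := F.cm_right h.ij hzK hg1
  have hs2 : cm z' (cm y z'') ∈ U k l := F.cm_right h.kl hzK hg2
  have hs3 : cm z' (cm y z'') ∈ U i l := F.cm_left h.il hz' (F.UK h.ij hg1)
  have hs4 : cm z' (cm y z'') ∈ U i k := F.tri' h.ik h.il.symm h.kl.symm hs3 hs2
  have hb1 : cm y z' ∈ U i j := F.cm_left h.ij hy hzK
  have e6 : cm y z' * cm y z'' = (cm z' (cm y z''))⁻¹ * cm y (z' * z'') := by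
    rw [e4, e5, ← mul_assoc (cm y z'), F.Uab h.ij _ hb1 _ hs1]
    group
  rw [e6]
  obtain ⟨h1, h2⟩ := hpp
  refine ⟨mul_mem (inv_mem hs1) h1, ?_⟩
  rcases h2 with h2 | h2
  · exact Or.inl (mul_mem (inv_mem hs4) h2)
  · right
    rw [mul_assoc]
    exact mul_mem (inv_mem hs4) h2

/-- `γ` does not depend on the order of `w_jl`, `w_ik`, modulo `Σ_ijkl` -/
theorem gam2 (h : D4 i j k l) {y z : G} (hy : y ∈ U i j) (hz : z ∈ U i j) :
    ∃ s, s ∈ U i j ∧ s ∈ U i k ∧ s ∈ U k l ∧ ga w j i l k y z = ga w i j k l y z * s := by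
  have hz' : cj (w j l) z ∈ U i l := F.w1' h.ij h.il.symm h.jl.symm hz
  have hx : cj (w i k) (cj (w j l) z) ∈ U k l := F.w1 h.ik h.il.symm h.kl.symm hz'
  unfold ga
  set x := cj (w i k) (cj (w j l) z) with hx0
  set d := cm (w j l) (w i k) with hd
  have hd1 : d ∈ W i k := by
    rw [hd, cm_eq]
    exact mul_mem (F.W3 h.jl h.ij h.il h.jk.symm h.kl h.ik (F.wW h.ik)) (inv_mem (F.wW h.ik))
  have hdK : d ∈ KK ε := by
    have h1 := acts_swap_conj (F.wA h.jl) (F.wA h.ik)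
    rw [Equiv.swap_apply_of_ne_of_ne h.ij h.il, Equiv.swap_apply_of_ne_of_ne h.jk.symm h.kl] at h1
    have h2 := h1.mul (F.wA h.ik).inv
    rw [mul_inv_cancel] at h2
    exact h2
  have e1 : cj (w j l) (cj (w i k) z) = cj d x := by
    rw [hd, hx0]; unfold cj cm; group
  have hyK := F.UK h.ij hy
  obtain ⟨h3, h4⟩ := F.uq h.ik.symm h.kl.symm h.il.symm hx (F.Qsym i k ▸ F.WQ h.ik hd1) hdK
  set p := x⁻¹ * cj d x with hp
  have e2 : cj d x = x * p := by rw [hp, mul_inv_cancel_left]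
  have hs1 : cm y p ∈ U i j := F.cm_left h.ij hy (F.UK h.kl h3)
  have hs2 : cm y p ∈ U k l := F.cm_right h.kl hyK h3
  have hs3 : cm y p ∈ U i k := by
    rcases h4 with h4 | h4
    · exact F.cm_right h.ik hyK (F.Usym k i ▸ h4)
    · have h5 : cm y (p * zz ε i) = cm y p := by
        rw [cm_mul_right, cm_one_iff.2 (Kz hyK i), cj_one, mul_one]
      rw [← h5]
      exact F.cm_right h.ik hyK (F.Usym k i ▸ h4)
  have hxK := F.UK h.kl hx
  refine ⟨cj x (cm y p), F.KU h.ij hxK hs1, F.KU h.ik hxK hs3, F.KU h.kl hxK hs2, ?_⟩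
  rw [e1, e2, cm_mul_right]

/-- `γ_kl β_k β_l ∈ ⟨z_k, z_l⟩ Σ_ijkl` -/
theorem gam (h : D4 i j k l) {y z : G} (hy : y ∈ U i j) (hz : z ∈ U i j) :
    ∃ e : Fin n → ZMod 2, (∀ a, a ≠ k → a ≠ l → e a = 0) ∧
      be w j k y z * be w j l y z * ga w i j k l y z * ε e ∈ U i j ∧
      be w j k y z * be w j l y z * ga w i j k l y z * ε e ∈ U i k ∧
      be w j k y z * be w j l y z * ga w i j k l y z * ε e ∈ U i l := by
  obtain ⟨b1, b2⟩ := F.be_lab h.ij h.ik.symm h.jk.symm hy hz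
  obtain ⟨c1, c2⟩ := F.be_lab h.ij h.il.symm h.jl.symm hy hz
  obtain ⟨g1, g2⟩ := F.ga_lab h hy hz
  obtain ⟨-, hA⟩ := F.gam1 h hy hz
  have h' : D4 j i l k := ⟨h.ij.symm, h.jl, h.jk, h.il, h.ik, h.kl.symm⟩
  obtain ⟨-, hB⟩ := F.gam1 h' (F.Usym i j ▸ hy) (F.Usym i j ▸ hz)
  obtain ⟨s, s1, s2, s3, s4⟩ := F.gam2 h hy hz
  rw [s4, F.be_swap h.ij h.ik.symm h.jk.symm hy hz] at hB
  set b := be w j k y z
  set c := be w j l y z
  set g := ga w i j k l y z
  have hX : b * c * g ∈ U i j := mul_mem (mul_mem b1 c1) g1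
  -- (A)
  have hA' : b * c * g ∈ U i k ∨ b * c * g * zz ε k ∈ U i k := by
    rcases hA with hA | hA
    · left
      rw [mul_assoc]
      exact mul_mem b2 hA
    · right
      rw [mul_assoc b, mul_assoc b]
      exact mul_mem b2 hA
  -- (B)
  have hsl : s ∈ U i l := F.tri h.ik.symm h.kl.symm h.il.symm (F.Usym i k ▸ s2) s3
  have hjl : ∀ {x : G}, x ∈ U i j → (x ∈ U j l ↔ x ∈ U i l) := fun {x} hx =>
    ⟨fun h1 => F.tri h.ij.symm h.jl.symm h.il.symm (F.Usym i j ▸ hx) h1,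
      fun h1 => F.tri h.ij h.il.symm h.jl.symm hx h1⟩
  have zl : zz ε l ∈ U i j := F.zU h.ij h.il.symm h.jl.symm
  have zk : zz ε k ∈ U i j := F.zU h.ij h.ik.symm h.jk.symm
  have hgK := F.UK h.ij g1
  have hB' : b * c * g ∈ U i l ∨ b * c * g * zz ε l ∈ U i l := by
    have e : b * c * g = c * (b * (g * s)) * s⁻¹ := by
      rw [F.Uab h.ij _ b1 _ c1]; group
    rcases hB with hB | hB
    · left
      rw [e]
      refine mul_mem (mul_mem c2 ((hjl (mul_mem b1 (mul_mem g1 s1))).1 hB)) (inv_mem hsl)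
    · right
      have e2 : b * c * g * zz ε l = c * (b * (g * s) * zz ε l) * s⁻¹ := by
        have h5 := Kz (inv_mem (F.UK h.ij s1)) l
        rw [e, mul_assoc _ s⁻¹, h5]; group
      rw [e2]
      exact mul_mem (mul_mem c2 ((hjl (mul_mem (mul_mem b1 (mul_mem g1 s1)) zl)).1 hB)) (inv_mem hsl)
  have hzk : zz ε k ∈ U i l := F.zU h.il h.ik.symm h.kl
  have hzl : zz ε l ∈ U i k := F.zU h.ik h.il.symm h.kl.symm
  rcases hA' with hA' | hA' <;> rcases hB' with hB' | hB'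
  · refine ⟨0, fun _ _ _ => rfl, ?_⟩
    rw [F.zero, mul_one]
    exact ⟨hX, hA', hB'⟩
  · refine ⟨Pi.single l 1, fun a _ ha => Pi.single_eq_of_ne ha 1, mul_mem hX zl, mul_mem hA' hzl, hB'⟩
  · refine ⟨Pi.single k 1, fun a ha _ => Pi.single_eq_of_ne ha 1, mul_mem hX zk, hA', mul_mem hB' hzk⟩
  · refine ⟨Pi.single k 1 + Pi.single l 1, fun a ha hb => ?_, ?_, ?_, ?_⟩
    · rw [Pi.add_apply, Pi.single_eq_of_ne ha, Pi.single_eq_of_ne hb, add_zero]
    · rw [F.add]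
      exact mul_mem hX (mul_mem zk zl)
    · rw [F.add, ← mul_assoc]
      exact mul_mem hA' hzl
    · rw [add_comm, F.add, ← mul_assoc]
      exact mul_mem hB' hzk

/-! ### Jacobi -/

omit F in
/-- Hall–Witt when the commutators commute -/
theorem hall_witt {y a b s t r p q : G} (hs : cm y a = s) (ht : cm y b = t) (hr : cm a b = r)
    (hp : cm a t = p) (hq : cm b s = q) (c1 : s * p = p * s) (c2 : s * t = t * s) (c3 : s * r = r * s)
    (c4 : t * r = r * t) (c5 : q * t = t * q) (c6 : q * r = r * q) : cm y r = p * q⁻¹ := by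
  have c7 : s * (t * r) = t * r * s := by rw [← mul_assoc, c2, mul_assoc, c3, ← mul_assoc]
  have c8 : q⁻¹ * (t * r) = t * r * q⁻¹ := by
    have : q * (t * r) = t * r * q := by rw [← mul_assoc, c5, mul_assoc, c6, ← mul_assoc]
    rw [inv_mul_eq_iff_eq_mul, ← mul_assoc, this]
    group
  have e1 : cm y r = s * a * t * b * a⁻¹ * s⁻¹ * b⁻¹ * t⁻¹ * r⁻¹ := by
    rw [← hs, ← ht, ← hr]; unfold cm; group
  have e2 : s * a * t * b * a⁻¹ * s⁻¹ * b⁻¹ * t⁻¹ * r⁻¹ =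
      s * (a * t * a⁻¹ * t⁻¹) * t * (a * b * a⁻¹ * b⁻¹) * (b * s * b⁻¹ * s⁻¹ * s)⁻¹ * t⁻¹ * r⁻¹ := by group
  have hp' : a * t * a⁻¹ * t⁻¹ = p := hp
  have hr' : a * b * a⁻¹ * b⁻¹ = r := hr
  have hq' : b * s * b⁻¹ * s⁻¹ = q := hq
  rw [e1, e2, hp', hr', hq', c1]
  calc p * s * t * r * (q * s)⁻¹ * t⁻¹ * r⁻¹ = p * (s * (t * r)) * (q * s)⁻¹ * t⁻¹ * r⁻¹ := by group
    _ = p * (t * r * s) * (q * s)⁻¹ * t⁻¹ * r⁻¹ := by rw [c7]
    _ = p * (t * r * q⁻¹) * t⁻¹ * r⁻¹ := by group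
    _ = p * (q⁻¹ * (t * r)) * t⁻¹ * r⁻¹ := by rw [c8]
    _ = p * q⁻¹ * (t * r) * t⁻¹ * r⁻¹ := by group
    _ = p * q⁻¹ * (r * t) * t⁻¹ * r⁻¹ := by rw [c4]
    _ = p * q⁻¹ := by group

/-- `[y, [z₁^{w_jk}, z₂^{w_jl}]] = β_k(y, β_l(z₁, z₂^{w_kl}))` -/
theorem cm_cm (h : D4 i j k l) {y z₁ z₂ : G} (hy : y ∈ U i j) (h1 : z₁ ∈ U i j) (h2 : z₂ ∈ U i j) :
    cm y (cm (cj (w j k) z₁) (cj (w j l) z₂)) = be w j k y (be w j l z₁ (cj (w k l) z₂)) := by
  have hki := h.ik.symm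
  have hkj := h.jk.symm
  have hli := h.il.symm
  have hlj := h.jl.symm
  have ha := F.w1' h.ij hki hkj h1
  have hb := F.w1' h.ij hli hlj h2
  have hz2' : cj (w k l) z₂ ∈ U i j := F.w3 h.kl h.ik h.il h.jk h.jl h.ij h2
  -- `v`
  have hinv : Acts ε (w j l)⁻¹ (Equiv.swap j l) := by
    have := (F.wA h.jl).inv
    rwa [Equiv.swap_inv] at this
  set v := cj (w j l)⁻¹ (w j k) with hv
  have hv1 : v ∈ W k l := by
    have := F.cW hinv h.jk _ (F.wW h.jk)
    rwa [Equiv.swap_apply_left, Equiv.swap_apply_of_ne_of_ne hkj h.kl, F.Wsym] at this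
  have hv2 : Acts ε v (Equiv.swap k l) := by
    have := acts_swap_conj hinv (F.wA h.jk)
    rwa [Equiv.swap_apply_left, Equiv.swap_apply_of_ne_of_ne hkj h.kl, Equiv.swap_comm] at this
  set c := v * (w k l)⁻¹ with hc
  have hcW : c ∈ W k l := mul_mem hv1 (inv_mem (F.wW h.kl))
  have hcK : c ∈ KK ε := by
    have := hv2.mul (F.wA h.kl).inv
    rw [mul_inv_cancel] at this
    exact this
  set z' := cj (w k l) z₂ with hz'
  have hz'K := F.UK h.ij hz2'
  set p := z'⁻¹ * cj c z' with hp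
  have hpU : p ∈ U i j := mul_mem (inv_mem hz2') (F.KU h.ij hcK hz2')
  have hpW : p ∈ W k l := by
    have e : p = cj z'⁻¹ c * c⁻¹ := by rw [hp]; unfold cj; group
    rw [e]
    exact mul_mem (F.KW h.kl (inv_mem hz'K) hcW) (inv_mem hcW)
  have e1 : cj (w j k) (cj (w j l) z₂) = cj (w j l) z' * cj (w j l) p := by
    rw [← cj_mul, hp, mul_inv_cancel_left, hz', hc, hv]
    unfold cj
    group
  have hb' : cj (w j l) z' ∈ U i l := F.w1' h.ij hli hlj hz2'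
  have hp1 : cj (w j l) p ∈ U i l := F.w1' h.ij hli hlj hpU
  have hp2 : cj (w j l) p ∈ W j k := by
    have := F.cW (F.wA h.jl) h.kl _ hpW
    rwa [Equiv.swap_apply_right, Equiv.swap_apply_of_ne_of_ne hkj h.kl, F.Wsym] at this
  set p' := cj (w j l) p with hp'
  have hs1 : cm z₁ p' ∈ U i l := F.cm_right h.il (F.UK h.ij h1) hp1
  have hs2 : cm z₁ p' ∈ U i j := F.cm_left h.ij h1 (F.UK h.il hp1)
  have hs3 : cm z₁ p' ∈ U i k ∨ cm z₁ p' * zz ε k ∈ U i k := by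
    obtain ⟨h3, h4⟩ := F.uq h.jk h.ij hki.symm (F.Usym i j ▸ h1) (F.WQ h.jk hp2) (F.UK h.il hp1)
    have e2 : cm z₁ p' = (z₁⁻¹ * cj p' z₁)⁻¹ := by
      have h5 : (cj p' z₁)⁻¹ ∈ U i j := inv_mem (F.KU h.ij (F.UK h.il hp1) h1)
      have h6 : cm z₁ p' = z₁ * (cj p' z₁)⁻¹ := by unfold cm cj; group
      rw [h6, F.Uab h.ij _ h1 _ h5]
      group
    have hzk : zz ε k ∈ U i j := F.zU h.ij hki hkj
    rcases h4 with h4 | h4
    · left
      have h5 : cm z₁ p' ∈ U j k := by rw [e2]; exact inv_mem h4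
      exact F.tri h.ij.symm hkj hki (F.Usym i j ▸ hs2) h5
    · right
      have h5 : cm z₁ p' * zz ε k ∈ U j k := by
        have e3 : cm z₁ p' * zz ε k = (z₁⁻¹ * cj p' z₁ * zz ε k)⁻¹ := by
          rw [mul_inv_rev, F.z_inv, ← e2, Kz (F.UK h.ij hs2)]
        rw [e3]
        exact inv_mem h4
      exact F.tri h.ij.symm hkj hki (F.Usym i j ▸ mul_mem hs2 hzk) h5
  have e4 : cj (w j k) (cm (cj (w j k) z₁) (cj (w j l) z₂)) = be w j l z₁ z' * cm z₁ p' := by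
    rw [cj_cm, F.cj_w_w h.jk (F.UK h.ij h1), e1, cm_mul_right, cj_eq_of_comm (F.Uab h.il _ hb' _ hs1)]
    rfl
  have hrK : cm (cj (w j k) z₁) (cj (w j l) z₂) ∈ KK ε := F.cmK (F.UK h.ik ha) (F.UK h.il hb)
  have e5 : cm y (cm (cj (w j k) z₁) (cj (w j l) z₂)) = be w j k y (be w j l z₁ z' * cm z₁ p') := by
    rw [← e4]
    unfold be
    rw [F.cj_w_w h.jk hrK]
  have hB := (F.be_lab h.ij hli hlj h1 hz2').1
  rw [e5, F.be_mul_right h.ij hki hkj hy hB hs2, F.be_symm h.ij hki hkj hy hs2,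
    F.be_pp h.ij hki hkj hs2 hs3 hy, mul_one]

/-- **Jacobi** -/
theorem jacobi (h : D4 i j k l) {y z₁ z₂ : G} (hy : y ∈ U i j) (h1 : z₁ ∈ U i j) (h2 : z₂ ∈ U i j) :
    be w j l (be w j k y z₁) z₂ * be w j k (be w j l y z₂) z₁ =
      be w j k y (be w j l z₁ (cj (w k l) z₂)) := by
  have hki := h.ik.symm
  have hkj := h.jk.symm
  have hli := h.il.symm
  have hlj := h.jl.symm
  have ha := F.w1' h.ij hki hkj h1
  have hb := F.w1' h.ij hli hlj h2
  obtain ⟨s1, s2⟩ := F.be_lab h.ij hki hkj hy h1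
  obtain ⟨t1, t2⟩ := F.be_lab h.ij hli hlj hy h2
  have r1 : cm (cj (w j k) z₁) (cj (w j l) z₂) ∈ U i k := F.cm_left h.ik ha (F.UK h.il hb)
  have r2 : cm (cj (w j k) z₁) (cj (w j l) z₂) ∈ U i l := F.cm_right h.il (F.UK h.ik ha) hb
  have p1 : cm (cj (w j k) z₁) (be w j l y z₂) ∈ U i j := F.cm_right h.ij (F.UK h.ik ha) t1
  have q1 : cm (cj (w j l) z₂) (be w j k y z₁) ∈ U i j := F.cm_right h.ij (F.UK h.il hb) s1
  have q2 : cm (cj (w j l) z₂) (be w j k y z₁) ∈ U i k := F.cm_right h.ik (F.UK h.il hb) s2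
  have hw := hall_witt (y := y) (a := cj (w j k) z₁) (b := cj (w j l) z₂) rfl rfl rfl rfl rfl
    (F.Uab h.ij _ s1 _ p1) (F.Uab h.ij _ s1 _ t1) (F.Uab h.ik _ s2 _ r1) (F.Uab h.il _ t2 _ r2)
    (F.Uab h.ij _ q1 _ t1) (F.Uab h.ik _ q2 _ r1)
  have eA : be w j k (be w j l y z₂) z₁ = (cm (cj (w j k) z₁) (be w j l y z₂))⁻¹ := (cm_inv' _ _).symm
  have eB : be w j l (be w j k y z₁) z₂ = (cm (cj (w j l) z₂) (be w j k y z₁))⁻¹ := (cm_inv' _ _).symm
  rw [← F.cm_cm h hy h1 h2, eA, eB, F.inv_self h.ij p1, F.Uab h.ij _ (inv_mem q1) _ p1]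
  exact hw.symm

end Fr

end Cfsg.Agent.Omega.NSix.Engine
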