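import Cfsg.Agent.Omega.NSix.Engine.Inst

/-!
# 439's (IRR) #16945: `U_ij / ⟨r_ij⟩` is an irreducible `N_ij`-module

Over `Fr` (THEOREM C as `ThC`): `Fr.exists_maxlab`, `Fr.exists_fix`, `Fr.fix_V` (the fixed space of all `U_ab` on
`U_ij / ⟨r_ij⟩` is `V_ij / ⟨r_ij⟩`), `Fr.irr_rr`.  Over `Hyp`: `Hyp.irr`.
-/

set_option autoImplicit false
set_option linter.unusedSectionVars false

namespace Cfsg.Agent.Omega.NSix.Engine

open Subgroup Cfsg
open Cfsg.Agent.ZN (o2 zc)
open Cfsg.Agent.Omega.S5.Def Cfsg.Agent.Omega.NSix.Base Cfsg.Agent.Omega.NSix.Basic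
open Cfsg.Agent.Omega.NSix.Zero
open Cfsg.Agent.Omega.TTn.Di (cm cj cj_mul cj_inv cj_cj cj_one cj_eq_of_comm comm_of_cj cj_eq_cm cm_eq
  cm_one_iff cm_eq')

universe u

variable {G : Type u} [Group G] {n : ℕ}

namespace Fr

variable {ε : (Fin n → ZMod 2) → G} {U W Q : Fin n → Fin n → Subgroup G} {w : Fin n → Fin n → G}
  (F : Fr ε U W Q w) {i j k l m : Fin n}

/-- an element with property `p` and a maximal set of labels -/
theorem exists_maxlab {p : G → Prop} (h : ∃ x, p x) :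
    ∃ s, p s ∧ ∀ t, p t → (∀ a b, Lab U s a b → Lab U t a b) → ∀ a b, Lab U t a b → Lab U s a b := by
  classical
  let f : G → ℕ := fun t => (Finset.univ.filter fun p : Fin n × Fin n => Lab U t p.1 p.2).card
  have hb : ∀ t, f t ≤ Fintype.card (Fin n × Fin n) := fun t => Finset.card_le_univ _
  have hex : ∃ m, ∃ s, p s ∧ Fintype.card (Fin n × Fin n) - f s = m := by
    obtain ⟨x, hx⟩ := h
    exact ⟨_, x, hx, rfl⟩
  obtain ⟨s, hs, hm⟩ := Nat.find_spec hex
  refine ⟨s, hs, fun t ht hst a b hab => ?_⟩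
  by_contra hno
  have hlt : f s < f t := by
    refine Finset.card_lt_card (Finset.ssubset_iff_subset_ne.2 ⟨?_, ?_⟩)
    · intro q hq
      rw [Finset.mem_filter] at hq ⊢
      exact ⟨hq.1, hst _ _ hq.2⟩
    · intro he
      have h5 : ((a, b) : Fin n × Fin n) ∈ Finset.univ.filter fun p : Fin n × Fin n => Lab U s p.1 p.2 := by
        rw [he, Finset.mem_filter]
        exact ⟨Finset.mem_univ _, hab⟩
      exact hno (Finset.mem_filter.1 h5).2
  have h1 := hb t
  have h2 : Fintype.card (Fin n × Fin n) - f t < Nat.find hex := by omega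
  exact Nat.find_min hex h2 ⟨t, ht, rfl⟩

include F

/-- a fixed point modulo `⟨r_ij⟩` -/
theorem exists_fix (hij : i ≠ j) {R : Subgroup G} (hRU : R ≤ U i j) (hK : ∀ g ∈ KK ε, ∀ x ∈ R, cj g x ∈ R)
    {x : G} (hx : x ∈ R) (h1 : x ≠ 1) (h2 : x ≠ rr ε i j) :
    ∃ s ∈ R, s ≠ 1 ∧ s ≠ rr ε i j ∧ ∀ a b, a ≠ b → ∀ y ∈ U a b, cm s y = 1 ∨ cm s y = rr ε i j := by
  obtain ⟨s, ⟨s1, s2, s3⟩, hmax⟩ := exists_maxlab (U := U) (p := fun s => s ∈ R ∧ s ≠ 1 ∧ s ≠ rr ε i j)
    ⟨x, hx, h1, h2⟩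
  refine ⟨s, s1, s2, s3, fun a b hab y hy => ?_⟩
  by_contra hc
  rw [not_or] at hc
  have hyK := F.UK hab hy
  have ht : cm s y ∈ R := by
    rw [cm_eq']
    exact mul_mem s1 (hK y hyK _ (inv_mem s1))
  have h3 := hmax _ ⟨ht, hc.1, hc.2⟩ (fun c d hcd => F.lab_cm_left hcd hyK) a b
    (F.lab_cm_right (F.UK hij (hRU s1)) (Or.inr hy))
  exact hc.1 (cm_one_iff.2 (F.comm_of_lab h3 hab hy))

/-- the fixed space of the `U_ab` on `U_ij / ⟨r_ij⟩` is `V_ij / ⟨r_ij⟩` -/
theorem fix_V (hC : ThC ε U) (hij : i ≠ j) {s : G} (hs : s ∈ U i j)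
    (h : ∀ k, k ≠ i → k ≠ j → ∀ y ∈ U i k, cm s y = 1 ∨ cm s y = rr ε i j) :
    ∃ x : Fin n → ZMod 2, x i = 0 ∧ x j = 0 ∧ s = ε x := by
  refine F.four_all hC hij hs fun k hki hkj y hy => ?_
  rcases h k hki hkj y hy with h1 | h1
  · exact cm_one_iff.1 h1
  · exfalso
    have h2 : cm s y ∈ U i k := F.cm_right hki.symm (F.UK hij hs) hy
    rw [h1] at h2
    exact F.r_nmem hki.symm hij.symm hkj.symm h2

/-- `ε x (ε x)^{w_kl} = r_kl` if `x_k ≠ x_l` -/
theorem mul_cj_w (hkl : k ≠ l) {x : Fin n → ZMod 2} (hx : x k ≠ x l) : ε x * cj (w k l) (ε x) = rr ε k l := by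
  have h1 : cj (w k l) (ε x) = ε (x ∘ (Equiv.swap k l).symm) := F.wA hkl x
  rw [h1, ← F.add, F.rr_eq]
  congr 1
  funext m
  rw [Pi.add_apply, Pi.add_apply, Function.comp_apply, Equiv.symm_swap]
  have key : ∀ a b : ZMod 2, a ≠ b → a + b = 1 := by decide
  by_cases h2 : m = k
  · rw [h2, Equiv.swap_apply_left, Pi.single_eq_same, Pi.single_eq_of_ne hkl, add_zero]
    exact key _ _ hx
  by_cases h3 : m = l
  · rw [h3, Equiv.swap_apply_right, Pi.single_eq_same, Pi.single_eq_of_ne hkl.symm, zero_add]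
    exact key _ _ hx.symm
  · rw [Equiv.swap_apply_of_ne_of_ne h2 h3, Pi.single_eq_of_ne h2, Pi.single_eq_of_ne h3, add_zero]
    exact CharTwo.add_self_eq_zero _

theorem cj_rr {g : G} {σ : Equiv.Perm (Fin n)} (hg : Acts ε g σ) (a b : Fin n) :
    cj g (rr ε a b) = rr ε (σ a) (σ b) := by
  unfold rr
  rw [cj_mul]
  exact congrArg₂ _ (hg.single a) (hg.single b)

/-- **(IRR)** over the frame: all pairs off `i`, `j` are in `R` -/
theorem irr_rr (hC : ThC ε U) (hij : i ≠ j) {R : Subgroup G} (hRU : R ≤ U i j)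
    (hK : ∀ g ∈ KK ε, ∀ x ∈ R, cj g x ∈ R)
    (hw : ∀ a b, a ≠ i → a ≠ j → b ≠ i → b ≠ j → a ≠ b → ∀ x ∈ R, cj (w a b) x ∈ R)
    {x : G} (hx : x ∈ R) (h1 : x ≠ 1) (h2 : x ≠ rr ε i j) {a b : Fin n} (hai : a ≠ i) (haj : a ≠ j)
    (hbi : b ≠ i) (hbj : b ≠ j) (hab : a ≠ b) : rr ε a b ∈ R := by
  obtain ⟨s, s1, s2, s3, s4⟩ := F.exists_fix hij hRU hK hx h1 h2
  obtain ⟨y, y1, y2, rfl⟩ := F.fix_V hC hij (hRU s1) fun k hki _ z hz => s4 i k hki.symm z hz
  have h3 : ∃ k l, k ≠ i ∧ k ≠ j ∧ l ≠ i ∧ l ≠ j ∧ y k ≠ y l := by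
    by_contra hc
    push Not at hc
    have h4 : ∀ m, m ≠ i → m ≠ j → y m = y a := fun m hm hm' => hc m a hm hm' hai haj
    rcases z2c (y a) with h5 | h5
    · apply s2
      have : y = 0 := by
        funext m
        by_cases hm : m = i
        · rw [hm, y1]; rfl
        by_cases hm' : m = j
        · rw [hm', y2]; rfl
        rw [h4 m hm hm', h5]; rfl
      rw [this, F.zero]
    · apply s3
      have : y = 1 + (Pi.single i 1 + Pi.single j 1) := by
        funext m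
        rw [Pi.add_apply, Pi.add_apply, Pi.one_apply]
        by_cases hm : m = i
        · rw [hm, y1, Pi.single_eq_same, Pi.single_eq_of_ne hij]; decide
        by_cases hm' : m = j
        · rw [hm', y2, Pi.single_eq_same, Pi.single_eq_of_ne hij.symm]; decide
        rw [h4 m hm hm', h5, Pi.single_eq_of_ne hm, Pi.single_eq_of_ne hm', add_zero, add_zero]
      rw [this, F.add, F.eone, one_mul, F.rr_eq]
  obtain ⟨k, l, hki, hkj, hli, hlj, hkl⟩ := h3
  have hkl' : k ≠ l := fun e => hkl (by rw [e])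
  have h5 : rr ε k l ∈ R := by
    rw [← F.mul_cj_w hkl' hkl]
    exact mul_mem s1 (hw k l hki hkj hli hlj hkl' _ s1)
  have step : ∀ p q c, p ≠ i → p ≠ j → q ≠ i → q ≠ j → c ≠ i → c ≠ j → p ≠ q → c ≠ q → rr ε p q ∈ R →
      rr ε c q ∈ R := by
    intro p q c hpi hpj hqi hqj hci hcj hpq hcq h6
    by_cases hcp : c = p
    · rw [hcp]; exact h6
    · have h7 := hw p c hpi hpj hci hcj (Ne.symm hcp) _ h6
      rwa [F.cj_rr (F.wA (Ne.symm hcp)), Equiv.swap_apply_left, Equiv.swap_apply_of_ne_of_ne hpq.symm hcq.symm] at h7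
  by_cases hal : a = l
  · rw [hal]
    have h6 : rr ε k a ∈ R := by rw [hal]; exact h5
    have h7 := step k a b hki hkj hai haj hbi hbj (by rw [hal]; exact hkl') hab.symm h6
    rw [F.r_symm, hal] at h7
    exact h7
  · have h6 := step k l a hki hkj hli hlj hai haj hkl' hal h5
    rw [F.r_symm] at h6
    have h7 := step l a b hli hlj hai haj hbi hbj (Ne.symm hal) hab.symm h6
    rwa [F.r_symm] at h7

end Fr

namespace Hyp

variable {V P : Subgroup G} {ε : (Fin n → ZMod 2) → G} (h : Hyp V P ε) {i j k l : Fin n}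
include h

/-- `z_k` from the pairs -/
theorem zz_mem_of {R : Subgroup G} (hij : i ≠ j) (hr : rr ε i j ∈ R)
    (hR : ∀ a b, a ≠ i → a ≠ j → b ≠ i → b ≠ j → a ≠ b → rr ε a b ∈ R) (hki : k ≠ i) (hkj : k ≠ j) :
    zz ε k ∈ R := by
  classical
  have h1 : ∀ T : Finset (Fin n), (∀ a ∈ T, a ≠ i ∧ a ≠ j ∧ a ≠ k) →
      ε (∑ a ∈ T, (Pi.single a 1 + Pi.single k 1)) ∈ R := by
    intro T
    induction T using Finset.induction_on with
    | empty => intro _; rw [Finset.sum_empty, h.ev.zero]; exact one_mem _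
    | insert a T ha ih =>
      intro hT
      rw [Finset.sum_insert ha, h.ev.add]
      obtain ⟨h2, h3, h4⟩ := hT a (Finset.mem_insert_self _ _)
      refine mul_mem ?_ (ih fun b hb => hT b (Finset.mem_insert_of_mem hb))
      have h5 := hR a k h2 h3 hki hkj h4
      unfold rr zz at h5
      rwa [← h.ev.add] at h5
  set T : Finset (Fin n) := Finset.univ \ {i, j, k} with hT
  have h2 := h1 T fun a ha => by
    simp only [hT, Finset.mem_sdiff, Finset.mem_univ, true_and, Finset.mem_insert, Finset.mem_singleton, not_or] at ha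
    exact ha
  have hcard : T.card = n - 3 := by
    rw [hT, Finset.card_sdiff_of_subset (Finset.subset_univ _), Finset.card_univ, Fintype.card_fin,
      Finset.card_eq_three.2 ⟨i, j, k, hij, hki.symm, hkj.symm, rfl⟩]
  have h3 : (Pi.single k 1 : Fin n → ZMod 2) = 1 + (Pi.single i 1 + Pi.single j 1) +
      ∑ a ∈ T, (Pi.single a 1 + Pi.single k 1) := by
    funext m
    rw [Pi.add_apply, Pi.add_apply, Pi.add_apply, Pi.one_apply, Finset.sum_apply]
    by_cases hmk : m = k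
    · subst hmk
      have e1 : ∀ a ∈ T, (Pi.single a 1 + Pi.single m 1 : Fin n → ZMod 2) m = 1 := by
        intro a ha
        have : m ≠ a := by
          rintro rfl
          simp [hT] at ha
        rw [Pi.add_apply, Pi.single_eq_of_ne this, Pi.single_eq_same, zero_add]
      rw [Finset.sum_congr rfl e1, Finset.sum_const, hcard, Pi.single_eq_same, Pi.single_eq_of_ne hki,
        Pi.single_eq_of_ne hkj, nsmul_eq_mul, mul_one]
      have h4 : ((n - 3 : ℕ) : ZMod 2) = 0 := by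
        rw [ZMod.natCast_eq_zero_iff]
        obtain ⟨c, hc⟩ := h.odd
        exact ⟨c - 1, by have := h.n5; omega⟩
      rw [h4]; decide
    · have e1 : ∀ a ∈ T, (Pi.single a 1 + Pi.single k 1 : Fin n → ZMod 2) m = (Pi.single a 1 : Fin n → ZMod 2) m := by
        intro a _
        rw [Pi.add_apply, Pi.single_eq_of_ne hmk, add_zero]
      rw [Finset.sum_congr rfl e1, Pi.single_eq_of_ne hmk]
      by_cases hmT : m ∈ T
      · have hm : m ≠ i ∧ m ≠ j ∧ m ≠ k := by
          simp only [hT, Finset.mem_sdiff, Finset.mem_univ, true_and, Finset.mem_insert, Finset.mem_singleton,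
            not_or] at hmT
          exact hmT
        rw [Finset.sum_eq_single m (fun a _ ha => Pi.single_eq_of_ne ha.symm _) (fun h0 => absurd hmT h0),
          Pi.single_eq_same, Pi.single_eq_of_ne hm.1, Pi.single_eq_of_ne hm.2.1]
        decide
      · have e2 : ∀ a ∈ T, (Pi.single a 1 : Fin n → ZMod 2) m = 0 := by
          intro a ha
          refine Pi.single_eq_of_ne ?_ _
          rintro rfl
          exact hmT ha
        rw [Finset.sum_eq_zero e2, add_zero]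
        have hm : m = i ∨ m = j := by
          by_contra hc
          rw [not_or] at hc
          exact hmT (by simp [hT, hc.1, hc.2, hmk])
        rcases hm with rfl | rfl
        · rw [Pi.single_eq_same, Pi.single_eq_of_ne hij]; decide
        · rw [Pi.single_eq_same, Pi.single_eq_of_ne hij.symm]; decide
  change ε (Pi.single k 1) ∈ R
  rw [h3, h.ev.add, h.ev.add, h.ev.one, one_mul]
  refine mul_mem ?_ h2
  unfold rr zz at hr
  rwa [← h.ev.add] at hr

theorem KK_le_NN (i j : Fin n) : KK ε ≤ NN ε i j := by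
  intro g hg
  rw [mem_NN]
  exact Fr.Kr hg i j

theorem acts_NN {g : G} {σ : Equiv.Perm (Fin n)} (hg : Acts ε g σ) (hi : σ i = i) (hj : σ j = j) : g ∈ NN ε i j := by
  rw [mem_NN', rr_conj hg, hi, hj]

/-- **(IRR)** -/
theorem irr [Finite G] (hij : i ≠ j) {R : Subgroup G} (hRU : R ≤ UU ε i j) (hr : rr ε i j ∈ R)
    (hN : ∀ g ∈ NN ε i j, ∀ x ∈ R, g * x * g⁻¹ ∈ R) (hne : ∃ x ∈ R, x ≠ 1 ∧ x ≠ rr ε i j) :
    R = UU ε i j := by
  obtain ⟨w, F⟩ := h.exists_fr
  obtain ⟨x, hx, h1, h2⟩ := hne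
  have h3 : ∀ a b, a ≠ i → a ≠ j → b ≠ i → b ≠ j → a ≠ b → rr ε a b ∈ R := by
    intro a b hai haj hbi hbj hab
    refine F.irr_rr h.thC hij hRU (fun g hg y hy => hN g (h.KK_le_NN i j hg) y hy) ?_ hx h1 h2 hai haj hbi hbj hab
    intro c d hci hcj hdi hdj hcd y hy
    refine hN _ ?_ y hy
    exact h.acts_NN (F.wA hcd) (Equiv.swap_apply_of_ne_of_ne hci.symm hdi.symm)
      (Equiv.swap_apply_of_ne_of_ne hcj.symm hdj.symm)
  refine le_antisymm hRU ?_
  unfold UU
  rw [closure_le]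
  rintro _ ⟨g, hg, k, hki, hkj, rfl⟩
  exact hN g hg _ (h.zz_mem_of hij hr h3 hki hkj)

/-- the fixed space -/
theorem fix_V [Finite G] (hij : i ≠ j) {s : G} (hs : s ∈ UU ε i j)
    (hf : ∀ k, k ≠ i → k ≠ j → ∀ y ∈ UU ε i k, cm s y = 1 ∨ cm s y = rr ε i j) :
    ∃ x : Fin n → ZMod 2, x i = 0 ∧ x j = 0 ∧ s = ε x := by
  obtain ⟨w, F⟩ := h.exists_fr
  exact F.fix_V h.thC hij hs hf

end Hyp

end Cfsg.Agent.Omega.NSix.Engine
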