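import Cfsg.Agent.Omega.NSix.Engine.Forms

/-!
# #15755 (7) (helper480) over the frame `Fr`: `W_34` on `W_12`

* `wq_comm` : `[W_ij ∩ Q_kl, W_kl ∩ Q_ij] = 1`; `index_eq` : `|W_ij : W_ij ∩ Q_kl| = |W_kl : W_kl ∩ Q_ij|`;
* `index_U` : `2 |U_ij : U_ij ∩ Q_kl|` divides it; `not_le` : `[U_ij, U_kl] ≠ 1 → U_ij ≰ Q_kl`;
* `quad` : `[W_ij, W_kl, W_kl] ≤ ⟨r_kl⟩ ≤ U_ij ≤ Z(W_ij)`, `cen_quot` : `[W_ij ∩ Q_kl, W_kl] ≤ ⟨r_kl⟩`;
* `index_sup` : `|W_ij : (W_ij ∩ Q_kl) U_ij| |U_ij : U_ij ∩ Q_kl| = |W_ij : W_ij ∩ Q_kl|`.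
-/

set_option autoImplicit false
set_option linter.unusedSectionVars false

namespace Cfsg.Agent.Omega.NSix.Engine

open Subgroup Cfsg.Agent.Omega.S5.Def Cfsg.Agent.Omega.NSix.Base
open Cfsg.Agent.Omega.TTn.Di (cm cj cj_mul cj_inv cj_cj cj_one cj_eq_of_comm comm_of_cj cj_eq_cm cm_eq
  cm_one_iff cm_eq')

universe u

variable {G : Type u} [Group G] {n : ℕ}

theorem relIndex_sup_norm {H U : Subgroup G} (hN : U ≤ normalizer (H : Set G)) :
    H.relIndex (H ⊔ U) = H.relIndex U := by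
  have hKn : (H.subgroupOf (H ⊔ U)).Normal :=
    normal_subgroupOf_of_le_normalizer (sup_le le_normalizer hN)
  have h1 := relIndex_sup_left (U.subgroupOf (H ⊔ U)) (H.subgroupOf (H ⊔ U))
  rwa [← Subgroup.subgroupOf_sup le_sup_left le_sup_right, Subgroup.subgroupOf_self,
    Subgroup.relIndex_subgroupOf le_sup_right, relIndex_top_right] at h1

theorem le_norm_of_cj {H U : Subgroup G} (h : ∀ g ∈ U, ∀ x ∈ H, cj g x ∈ H) :
    U ≤ normalizer (H : Set G) := by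
  intro g hg
  rw [mem_normalizer_iff]
  intro x
  refine ⟨fun hx => h g hg x hx, fun hx => ?_⟩
  have h1 := h g⁻¹ (inv_mem hg) _ hx
  have e : cj g⁻¹ (g * x * g⁻¹) = x := by unfold cj; group
  rwa [e] at h1

/-- a label-equivariant family of subgroups -/
theorem map_conj {ε : (Fin n → ZMod 2) → G} {T : Fin n → Fin n → Subgroup G}
    (cT : ∀ {g : G} {σ : Equiv.Perm (Fin n)}, Acts ε g σ → ∀ {i j}, i ≠ j → ∀ x ∈ T i j, cj g x ∈ T (σ i) (σ j))
    {g : G} {σ : Equiv.Perm (Fin n)} (hg : Acts ε g σ) {i j : Fin n} (hij : i ≠ j) :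
    (T i j).map (MulAut.conj g).toMonoidHom = T (σ i) (σ j) := by
  ext x
  constructor
  · rintro ⟨y, hy, rfl⟩
    exact cT hg hij y hy
  · intro hx
    have h1 := cT hg.inv (σ.injective.ne hij) x hx
    have e : ∀ a, σ⁻¹ (σ a) = a := fun a => σ.symm_apply_apply a
    rw [e, e] at h1
    refine ⟨_, h1, ?_⟩
    change g * (g⁻¹ * x * g⁻¹⁻¹) * g⁻¹ = x
    group

namespace Fr

variable {ε : (Fin n → ZMod 2) → G} {U W Q : Fin n → Fin n → Subgroup G} {w : Fin n → Fin n → G}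
  (F : Fr ε U W Q w) {i j k l m : Fin n}

include F

theorem zz_ne (hij : i ≠ j) (hki : k ≠ i) (hkj : k ≠ j) : zz ε i ≠ zz ε j := by
  intro h
  have h1 := F.zU hkj.symm hij hki.symm
  rw [h] at h1
  exact F.zU' hkj.symm h1

theorem acts_unique {g : G} {σ τ : Equiv.Perm (Fin n)} (h1 : Acts ε g σ) (h2 : Acts ε g τ) (a : Fin n)
    (hk : k ≠ σ a) (hk' : k ≠ τ a) : σ a = τ a := by
  by_contra hne
  refine F.zz_ne hne hk hk' ?_
  have h3 := h1.single a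
  have h4 := h2.single a
  exact h3.symm.trans h4

theorem rr_ne (h : D5 i j k l m) : rr ε i j ≠ rr ε k l := by
  intro h1
  have h2 : rr ε k l ∈ U i m := mul_mem (F.zU h.im h.ik.symm h.km) (F.zU h.im h.il.symm h.lm)
  rw [← h1] at h2
  exact F.r_nmem h.im h.ij.symm h.jm h2

/-- `[W_ij ∩ Q_kl, W_kl ∩ Q_ij] = 1` -/
theorem wq_comm (h : D5 i j k l m) {x y : G} (hx : x ∈ W i j) (hx' : x ∈ Q k l) (hy : y ∈ W k l)
    (hy' : y ∈ Q i j) : x * y = y * x := by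
  rcases F.QW h.kl x hx' y hy with h1 | h1
  · exact cm_one_iff.1 h1
  · exfalso
    rcases F.QW h.ij y hy' x hx with h2 | h2
    · rw [← cm_inv', h1, inv_eq_one, F.r_symm] at h2
      have h3 : rr ε k l ∈ U k m := by rw [F.r_symm, h2]; exact one_mem _
      exact F.r_nmem h.km h.kl.symm h.lm h3
    · rw [← cm_inv', h1, F.r_inv] at h2
      exact F.rr_ne h h2.symm

/-- `|W_ij : W_ij ∩ Q_kl| = |W_kl : W_kl ∩ Q_ij|` -/
theorem index_eq (h : D4 i j k l) : (Q k l).relIndex (W i j) = (Q i j).relIndex (W k l) := by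
  have hg := (F.wA h.ik).mul (F.wA h.jl)
  set g := w i k * w j l
  set σ := Equiv.swap i k * Equiv.swap j l with hσ
  have e1 : σ i = k := by
    rw [hσ, Equiv.Perm.mul_apply, Equiv.swap_apply_of_ne_of_ne h.ij h.il, Equiv.swap_apply_left]
  have e2 : σ j = l := by
    rw [hσ, Equiv.Perm.mul_apply, Equiv.swap_apply_left, Equiv.swap_apply_of_ne_of_ne h.il.symm h.kl.symm]
  have e3 : σ k = i := by
    rw [hσ, Equiv.Perm.mul_apply, Equiv.swap_apply_of_ne_of_ne h.jk.symm h.kl, Equiv.swap_apply_right]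
  have e4 : σ l = j := by
    rw [hσ, Equiv.Perm.mul_apply, Equiv.swap_apply_right, Equiv.swap_apply_of_ne_of_ne h.ij.symm h.jk]
  have h1 := map_conj F.cW hg h.ij
  have h2 := map_conj F.cQ hg h.kl
  rw [e1, e2] at h1
  rw [e3, e4] at h2
  rw [← h1, ← h2]
  exact (relIndex_map_map_of_injective _ _ (MulAut.conj g).injective).symm

/-- `W_ij ∩ Q_kl ≤ C_G(V)` -/
theorem inf_le_KK (h : D4 i j k l) {x : G} (hx : x ∈ W i j) (hx' : x ∈ Q k l) : x ∈ KK ε := by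
  rcases F.QA h.ij x (F.WQ h.ij hx) with h1 | h1
  · exact h1
  · exfalso
    rcases F.QA h.kl x hx' with h2 | h2
    · have h3 := F.acts_unique (k := k) h1 h2 i (by rw [Equiv.swap_apply_left]; exact h.jk.symm)
        (by exact h.ik.symm)
      rw [Equiv.swap_apply_left] at h3
      exact h.ij.symm h3
    · have h3 := F.acts_unique (k := k) h1 h2 i (by rw [Equiv.swap_apply_left]; exact h.jk.symm)
        (by rw [Equiv.swap_apply_of_ne_of_ne h.ik h.il]; exact h.ik.symm)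
      rw [Equiv.swap_apply_left, Equiv.swap_apply_of_ne_of_ne h.ik h.il] at h3
      exact h.ij.symm h3

/-- `|W_ij : W_ij ∩ C_G(V)| = 2` -/
theorem index_KK (hij : i ≠ j) (hki : k ≠ i) (hkj : k ≠ j) : (W i j ⊓ KK ε).relIndex (W i j) = 2 := by
  rw [relIndex_eq_two_iff]
  refine ⟨w i j, F.wW hij, fun b hb => ?_⟩
  have hno : ∀ {g : G}, Acts ε g (Equiv.swap i j) → g ∉ KK ε := by
    intro g h1 h2
    have h3 := F.acts_unique (k := k) h1 (mem_KK.1 h2) i (by rw [Equiv.swap_apply_left]; exact hkj)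
      (by exact hki)
    rw [Equiv.swap_apply_left] at h3
    exact hij.symm h3
  rcases F.QA hij b (F.WQ hij hb) with h1 | h1
  · right
    refine ⟨⟨hb, h1⟩, fun h2 => ?_⟩
    have h3 := h1.mul (F.wA hij)
    rw [one_mul] at h3
    exact hno h3 h2.2
  · left
    refine ⟨⟨mul_mem hb (F.wW hij), ?_⟩, fun h2 => hno h1 h2.2⟩
    have h3 := h1.mul (F.wA hij)
    rw [Equiv.swap_mul_self] at h3
    exact h3

/-- the general index formula: `X ≤ W_ij ∩ C_G(V)` -/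
theorem index_sup (h : D4 i j k l) {X : Subgroup G} (hXW : X ≤ W i j) (hXK : X ≤ KK ε) :
    (Q k l).relIndex X * ((Q k l ⊓ W i j) ⊔ X).relIndex (W i j) = (Q k l).relIndex (W i j) := by
  have hN : X ≤ normalizer ((Q k l ⊓ W i j : Subgroup G) : Set G) :=
    le_norm_of_cj fun g hg x hx => ⟨F.KQ h.kl (hXK hg) hx.1, F.KW h.ij (hXK hg) hx.2⟩
  have h1 := relIndex_sup_norm hN
  have h2 : (Q k l ⊓ W i j).relIndex X = (Q k l).relIndex X := by
    rw [← inf_relIndex_right (Q k l ⊓ W i j), ← inf_relIndex_right (Q k l) X, inf_assoc,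
      inf_eq_right.2 hXW]
  have h3 := relIndex_mul_relIndex (Q k l ⊓ W i j) ((Q k l ⊓ W i j) ⊔ X) (W i j) le_sup_left
    (sup_le inf_le_right hXW)
  rw [h1, h2, inf_relIndex_right] at h3
  exact h3

/-- `2 |U_ij : U_ij ∩ Q_kl|` divides `|W_ij : W_ij ∩ Q_kl|` -/
theorem index_U (h : D4 i j k l) {X : Subgroup G} (hXW : X ≤ W i j) (hXK : X ≤ KK ε) :
    2 * (Q k l).relIndex X ∣ (Q k l).relIndex (W i j) := by
  rw [← F.index_sup h hXW hXK, mul_comm 2]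
  refine mul_dvd_mul_left _ ?_
  have h1 := relIndex_mul_relIndex ((Q k l ⊓ W i j) ⊔ X) (W i j ⊓ KK ε) (W i j)
    (sup_le (fun x hx => ⟨hx.2, F.inf_le_KK h hx.2 hx.1⟩) (fun x hx => ⟨hXW hx, hXK hx⟩)) inf_le_left
  rw [F.index_KK h.ij h.ik.symm h.jk.symm] at h1
  exact ⟨_, by rw [← h1, mul_comm]⟩

omit F in
/-- `U_ij ≰ Q_kl` -/
theorem not_le (F : Fr ε U W Q w) (hkl : k ≠ l) {y z : G} (hy : y ∈ U i j) (hz : z ∈ U k l) (hyz : y * z ≠ z * y) :
    ¬ U i j ≤ Q k l := fun h => hyz (F.UQc hkl y (h hy) z hz)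

/-- `W_ij` normalises `W_kl` -/
theorem WW_norm (h : D4 i j k l) {x y : G} (hx : x ∈ W i j) (hy : y ∈ W k l) : cj x y ∈ W k l := by
  rcases F.QA h.ij x (F.WQ h.ij hx) with h1 | h1
  · exact F.cW h1 h.kl y hy
  · have h2 := F.cW h1 h.kl y hy
    rwa [Equiv.swap_apply_of_ne_of_ne h.ik.symm h.jk.symm, Equiv.swap_apply_of_ne_of_ne h.il.symm h.jl.symm] at h2

/-- `[W_ij, W_kl] ≤ W_ij ∩ W_kl` -/
theorem WW_cm (h : D4 i j k l) {x y : G} (hx : x ∈ W i j) (hy : y ∈ W k l) : cm x y ∈ W i j ∧ cm x y ∈ W k l := by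
  have h' : D4 k l i j := ⟨h.kl, h.ik.symm, h.jk.symm, h.il.symm, h.jl.symm, h.ij⟩
  refine ⟨?_, mul_mem (F.WW_norm h hx hy) (inv_mem hy)⟩
  rw [cm_eq']
  exact mul_mem hx (F.WW_norm h' hy (inv_mem hx))

/-- `[W_ij, W_kl, W_kl] ≤ ⟨r_kl⟩` -/
theorem quad (h : D4 i j k l) {x y y' : G} (hx : x ∈ W i j) (hy : y ∈ W k l) (hy' : y' ∈ W k l) :
    cm (cm x y) y' = 1 ∨ cm (cm x y) y' = rr ε k l :=
  F.QW h.kl _ (F.WQ h.kl (F.WW_cm h hx hy).2) _ hy'

/-- `r_kl ∈ U_ij ≤ Z(W_ij)` -/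
theorem rr_cen (h : D4 i j k l) {x : G} (hx : x ∈ W i j) : rr ε k l ∈ U i j ∧ x * rr ε k l = rr ε k l * x := by
  have h1 := F.rr_mem_disj h.ij h.ik.symm h.jk.symm h.il.symm h.jl.symm
  exact ⟨h1, F.UQc h.ij x (F.WQ h.ij hx) _ h1⟩

end Fr

end Cfsg.Agent.Omega.NSix.Engine
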