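import Cfsg.Agent.Omega.NSix.Engine.Frame

/-!
# (3) of #15755 (helper480): THEOREM C on the frame `Fr`

* `Fr.two1` : `[v, y] ∈ Σ_ijkl` for `v ∈ U i k` centralising `U i j`, `y ∈ U p l`, `p ∈ {i,j,k}`;
* `Fr.two2` : `[u, y] = [u ^ w_ij, y]` for `u ∈ U i k` centralising `U i j`, `y ∈ U i m`;
* `Fr.thmC`, `Fr.thmC'` : `u ∈ U i k` centralising `U i j` lies in `Q i j`, and in `⟨z_j⟩ Σ_ijk`.
-/

set_option autoImplicit false
set_option linter.unusedSectionVars false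

namespace Cfsg.Agent.Omega.NSix.Engine

open Subgroup Cfsg.Agent.Omega.S5.Def Cfsg.Agent.Omega.NSix.Base
open Cfsg.Agent.Omega.TTn.Di (cm cj cj_mul cj_inv cj_cj cj_one cj_eq_of_comm comm_of_cj cj_eq_cm cm_eq
  cm_one_iff cm_eq')

universe u

variable {G : Type u} [Group G] {n : ℕ}

namespace Fr

variable {ε : (Fin n → ZMod 2) → G} {U W Q : Fin n → Fin n → Subgroup G} {w : Fin n → Fin n → G}
  (F : Fr ε U W Q w) {i j k l m : Fin n}

include F

omit F in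
/-- `y ∈ Σ_ijkl` -/
def Sg (U : Fin n → Fin n → Subgroup G) (i j k l : Fin n) (y : G) : Prop :=
  y ∈ U i j ∧ y ∈ U i k ∧ y ∈ U i l

theorem sg_a (h : D4 i j k l) {y : G} (hy : Sg U i j k l y) : Sg U j i k l y :=
  ⟨F.Usym i j ▸ hy.1, F.tri h.ij h.ik.symm h.jk.symm hy.1 hy.2.1,
    F.tri h.ij h.il.symm h.jl.symm hy.1 hy.2.2⟩

omit F in
theorem sg_b {y : G} (hy : Sg U i j k l y) : Sg U i k j l y := ⟨hy.2.1, hy.1, hy.2.2⟩

omit F in
theorem sg_c {y : G} (hy : Sg U i j k l y) : Sg U i j l k y := ⟨hy.1, hy.2.2, hy.2.1⟩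

theorem sg_jk (h : D4 i j k l) {y : G} (hy : Sg U i j k l y) : y ∈ U j k := (F.sg_a h hy).2.1

theorem sg_jl (h : D4 i j k l) {y : G} (hy : Sg U i j k l y) : y ∈ U j l := (F.sg_a h hy).2.2

theorem sg_kl (h : D4 i j k l) {y : G} (hy : Sg U i j k l y) : y ∈ U k l :=
  F.tri h.ik h.il.symm h.kl.symm hy.2.1 hy.2.2

/-- (2.1), first form: `v ∈ U i l` centralising `U i j`, `y ∈ U i k` -/
theorem two1a (h : D4 i j k l) {v y : G} (hv : v ∈ U i l) (hc : Cen U v i j) (hy : y ∈ U i k) :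
    Sg U i j k l (cm v y) ∧ Sg U i j k l (cm v (cj (w i j) y)) := by
  set u := cj (w k l) v with hu
  have hvK := F.UK h.il hv
  have hyK := F.UK h.ik hy
  have hu1 : u ∈ U i k := by
    rw [F.Usym]
    exact F.w2 h.kl h.ik h.il (F.Usym i l ▸ hv)
  have huv : cj (w k l) u = v := F.cj_w_w h.kl hvK
  have hcu : Cen U u i j :=
    F.cen_cj h.kl hc (fun y hy => F.w3 h.kl h.ik h.il h.jk h.jl h.ij hy) h.ij
  have hcu2 : Cen U u j k := F.cen_tri h.ij h.ik.symm h.jk.symm hu1 hcu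
  -- `u v ∈ Q i j`
  have hq : u * v ∈ Q i j := by
    have h1 := F.cw h u hcu _ (F.wW h.kl)
    have e1 : cm u (w k l) = u * v := by
      rw [cm_eq', F.inv_self h.ik hu1, huv]
    rwa [e1] at h1
  set y' := cj (w i j) y with hy'
  have hy1 : y' ∈ U j k := F.w1 h.ij h.ik.symm h.jk.symm hy
  have hy1K := F.UK h.jk hy1
  have h2 : y * y' ∈ W i j := F.uuw h.ij h.ik hy
  have h3 := F.QW h.ij _ hq _ h2
  set e := cm (u * v) (y * y') with he
  have hb : cj v y ∈ U i k := F.KU h.ik hvK hy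
  have hb' : cj v y' ∈ U j k := F.KU h.jk hvK hy1
  have e1 : cj (u * v) (y * y') = cj v y * cj v y' := by
    rw [← cj_cj, cj_mul, cj_mul, cj_eq_of_comm (F.Uab h.ik u hu1 _ hb), cj_eq_of_comm (hcu2 _ hb')]
  have e2 : cj v y * cj v y' = e * (y * y') := by rw [← e1, cj_eq_cm]
  have ecomm : ∀ g ∈ KK ε, e * g = g * e := by
    intro g hg
    rcases h3 with h3 | h3
    · rw [h3, one_mul, mul_one]
    · rw [h3, Kr hg]
  -- `y⁻¹ b = e y' b'⁻¹`
  have e3 : y⁻¹ * cj v y = e * (y' * (cj v y')⁻¹) := by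
    have e4 : y⁻¹ * cj v y = y⁻¹ * (cj v y * cj v y') * (cj v y')⁻¹ := by group
    rw [e4, e2, ← mul_assoc e, ecomm y hyK]
    group
  have m1 : y⁻¹ * cj v y ∈ U i l := by
    have e4 : y⁻¹ * cj v y = cj y⁻¹ v * v⁻¹ := by unfold cj; group
    rw [e4]
    exact mul_mem (F.KU h.il (inv_mem hyK) hv) (inv_mem hv)
  have m2 : y' * (cj v y')⁻¹ ∈ U i l := by
    have e4 : y' * (cj v y')⁻¹ = cj y' v * v⁻¹ := by unfold cj; group
    rw [e4]
    exact mul_mem (F.KU h.il hy1K hv) (inv_mem hv)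
  have he1 : e = 1 := by
    rcases h3 with h3 | h3
    · exact h3
    · exfalso
      have h4 : e ∈ U i l := by
        have e4 : e = (y⁻¹ * cj v y) * (y' * (cj v y')⁻¹)⁻¹ := by rw [e3]; group
        rw [e4]; exact mul_mem m1 (inv_mem m2)
      rw [h3] at h4
      exact F.r_nmem h.il h.ij.symm h.jl h4
  rw [he1, one_mul] at e3
  have m3 : y⁻¹ * cj v y ∈ U i k := mul_mem (inv_mem hy) hb
  have m4 : y⁻¹ * cj v y ∈ U j k := by rw [e3]; exact mul_mem hy1 (inv_mem hb')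
  have m5 : y⁻¹ * cj v y ∈ U i j := F.tri' h.ij h.ik.symm h.jk.symm m3 m4
  have f1 : cm v y = y⁻¹ * cj v y := by
    rw [cm_eq]
    exact F.Uab h.ik _ hb _ (inv_mem hy)
  have f2 : cm v y' = (y⁻¹ * cj v y)⁻¹ := by
    rw [e3, mul_inv_rev, inv_inv, cm_eq]
  refine ⟨?_, ?_⟩
  · rw [f1]; exact ⟨m5, m3, m1⟩
  · rw [f2]; exact ⟨inv_mem m5, inv_mem m3, inv_mem m1⟩

/-- (2.1): triangle `i j k`, `v ∈ U i k` centralising `U i j`; `y ∈ U p l`, `p ∈ {i,j,k}` -/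
theorem two1 (h : D4 i j k l) {v y : G} (hv : v ∈ U i k) (hc : Cen U v i j)
    (hy : y ∈ U i l ∨ y ∈ U j l ∨ y ∈ U k l) : Sg U i j k l (cm v y) := by
  have hh := h.c
  rcases hy with hy | hy | hy
  · exact sg_c (F.two1a hh hv hc hy).1
  · have h1 : cj (w i j) y ∈ U i l := F.w2 h.ij h.il.symm h.jl.symm hy
    have h2 := (F.two1a hh hv hc h1).2
    rw [F.cj_w_w h.ij (F.UK h.jl hy)] at h2
    exact sg_c h2
  · have h1 : cj (w i k) y ∈ U i l := F.w2 h.ik h.il.symm h.kl.symm hy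
    have h2 := (F.two1a hh hv hc h1).1
    -- conjugate back
    have e1 : cm v y = cj (w i k) (cm v (cj (w i k) y)) := by
      have e2 : ∀ a b c : G, cj a (cm b c) = cm (cj a b) (cj a c) := by
        intro a b c; unfold cj cm; group
      rw [e2, F.cj_w_w h.ik (F.UK h.kl hy), F.cj_w_self h.ik hv]
    rw [e1]
    obtain ⟨a1, a2, a3⟩ := h2
    -- a1 : U i j, a2 : U i l, a3 : U i k
    have b3 : cj (w i k) (cm v (cj (w i k) y)) ∈ U i k := by
      rw [F.cj_w_self h.ik a3]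
      exact a3
    have b1 : cj (w i k) (cm v (cj (w i k) y)) ∈ U k j := F.w1 h.ik h.ij.symm h.jk a1
    have b2 : cj (w i k) (cm v (cj (w i k) y)) ∈ U k l := F.w1 h.ik h.il.symm h.kl.symm a2
    exact ⟨F.tri h.ik.symm h.jk h.ij.symm (F.Usym i k ▸ b3) b1, b3,
      F.tri h.ik.symm h.kl.symm h.il.symm (F.Usym i k ▸ b3) b2⟩

/-- (2.2), one letter: `[u ^ w_ij, y] [u, y]⁻¹ = [u_jl, y]⁻¹ [u_il, y]` -/
theorem two2a (h : D5 i j k l m) {u y : G} (hu : u ∈ U i k) (hc : Cen U u i j) (hy : y ∈ U i m) :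
    cm (cj (w i j) u) y * (cm u y)⁻¹ ∈ U i l := by
  have huK := F.UK h.ik hu
  have hyK := F.UK h.im hy
  set u2 := cj (w i j) u with hu2
  have hu2m : u2 ∈ U j k := F.w1 h.ij h.ik.symm h.jk.symm hu
  have hu2K := F.UK h.jk hu2m
  have hc2 : Cen U u2 i j := by
    refine F.cen_cj h.ij hc (fun z hz => ?_) h.ij
    rw [F.cj_w_self h.ij hz]
    exact hz
  set u4 := cj (w k l) u with hu4
  have hu4m : u4 ∈ U i l := by
    rw [F.Usym]
    exact F.w1 h.kl h.ik h.il (F.Usym i k ▸ hu)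
  have hu4K := F.UK h.il hu4m
  have hc4 : Cen U u4 i j :=
    F.cen_cj h.kl hc (fun y hy => F.w3 h.kl h.ik h.il h.jk h.jl h.ij hy) h.ij
  set u24 := cj (w i j) u4 with hu24
  have hu24m : u24 ∈ U j l := F.w1 h.ij h.il.symm h.jl.symm hu4m
  have hu24K := F.UK h.jl hu24m
  have hc24 : Cen U u24 i j := by
    refine F.cen_cj h.ij hc4 (fun z hz => ?_) h.ij
    rw [F.cj_w_self h.ij hz]
    exact hz
  -- `u u4 ∈ Q i j`
  have hq : u * u4 ∈ Q i j := by
    have h1 := F.cw h.toD4 u hc _ (F.wW h.kl)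
    have e1 : cm u (w k l) = u * u4 := by rw [cm_eq', F.inv_self h.ik hu]
    rwa [e1] at h1
  have h3 := F.QW h.ij _ hq _ (F.wW h.ij)
  set e := cm (u * u4) (w i j) with he
  have hee : ∀ g ∈ KK ε, e * g = g * e := by
    intro g hg
    rcases h3 with h3 | h3
    · rw [h3, one_mul, mul_one]
    · rw [h3, Kr hg]
  -- `u u4 = e · (u2 u24)`
  have e1 : u * u4 = e * (u2 * u24) := by
    have e2 : u2 * u24 = cj (w i j) (u * u4) := by rw [hu2, hu24, cj_mul]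
    have e3 : cj (u * u4) (w i j) = e * w i j := by rw [cj_eq_cm]
    have e4 : u * u4 * w i j = e * w i j * (u * u4) := by
      rw [← e3]; unfold cj; group
    have e5 : u * u4 = e * (w i j * (u * u4) * (w i j)⁻¹) := by
      calc u * u4 = u * u4 * w i j * (w i j)⁻¹ := by group
        _ = e * w i j * (u * u4) * (w i j)⁻¹ := by rw [e4]
        _ = _ := by group
    rw [e2]
    exact e5
  have e2 : cj (u * u4) y = cj (u2 * u24) y := by
    rw [e1, ← cj_cj]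
    exact cj_eq_of_comm (hee _ (mul_mem (mul_mem (mul_mem hu2K hu24K) hyK)
      (inv_mem (mul_mem hu2K hu24K))))
  have S4 : Sg U i j k m (cm u y) := F.two1 h.d.toD4 hu hc (Or.inl hy)
  have S4' : Sg U j i k m (cm u2 y) :=
    F.two1 (h.a.d).toD4 hu2m (F.cen_symm hc2) (Or.inr (Or.inl hy))
  have S3 : Sg U i j l m (cm u4 y) := F.two1 h.c.d.toD4 hu4m hc4 (Or.inl hy)
  have S3' : Sg U j i l m (cm u24 y) :=
    F.two1 (h.a.c.d).toD4 hu24m (F.cen_symm hc24) (Or.inr (Or.inl hy))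
  have S4'' : Sg U i j k m (cm u2 y) := F.sg_a (h.a.d).toD4 S4'
  have S3'' : Sg U i j l m (cm u24 y) := F.sg_a (h.a.c.d).toD4 S3'
  have f1 : cj (u * u4) y = cm u4 y * (cm u y * y) := by
    rw [← cj_cj, cj_eq_cm u4 y, cj_mul, cj_eq_cm u y, cj_eq_of_comm (hc _ S3.1)]
  have f2 : cj (u2 * u24) y = cm u24 y * (cm u2 y * y) := by
    rw [← cj_cj, cj_eq_cm u24 y, cj_mul, cj_eq_cm u2 y, cj_eq_of_comm (hc2 _ S3''.1)]
  rw [f1, f2, ← mul_assoc, ← mul_assoc] at e2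
  have e3 := mul_right_cancel e2
  have e4 : (cm u24 y)⁻¹ * cm u4 y = cm u2 y * (cm u y)⁻¹ := by
    rw [inv_mul_eq_iff_eq_mul, ← mul_assoc, ← e3, mul_assoc, mul_inv_cancel, mul_one]
  rw [← e4]
  exact mul_mem (inv_mem S3''.2.1) S3.2.1

/-- **(2.2)** `[u, y] = [u ^ w_ij, y]` -/
theorem two2 (h : D4 i j k m) {u y : G} (hu : u ∈ U i k) (hc : Cen U u i j) (hy : y ∈ U i m) :
    cm u y = cm (cj (w i j) u) y := by
  have hu2m : cj (w i j) u ∈ U j k := F.w1 h.ij h.ik.symm h.jk.symm hu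
  have hc2 : Cen U (cj (w i j) u) i j := by
    refine F.cen_cj h.ij hc (fun z hz => ?_) h.ij
    rw [F.cj_w_self h.ij hz]
    exact hz
  have S1 : Sg U i j k m (cm u y) := F.two1 h hu hc (Or.inl hy)
  have S2 : Sg U i j k m (cm (cj (w i j) u) y) :=
    F.sg_a h.a (F.two1 h.a hu2m (F.cen_symm hc2) (Or.inr (Or.inl hy)))
  have e5 : cm (cj (w i j) u) y * (cm u y)⁻¹ = 1 := by
    refine F.star (i := i) fun a => ?_
    by_cases hai : a = i
    · rw [hai]; exact lab_refl _ _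
    refine Or.inr ?_
    by_cases haj : a = j
    · rw [haj]; exact mul_mem S2.1 (inv_mem S1.1)
    by_cases hak : a = k
    · rw [hak]; exact mul_mem S2.2.1 (inv_mem S1.2.1)
    by_cases ham : a = m
    · rw [ham]; exact mul_mem S2.2.2 (inv_mem S1.2.2)
    exact F.two2a (l := a) ⟨⟨h.ij, h.ik, Ne.symm hai, h.jk, Ne.symm haj, Ne.symm hak⟩, h.il, h.jl, h.kl, ham⟩
      hu hc hy
  exact (mul_inv_eq_one.1 e5).symm

/-- **THEOREM C** -/
theorem thmC (h : D4 i j k l) {u : G} (hu : u ∈ U i k) (hc : Cen U u i j) : u ∈ Q i j := by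
  have hu' : u ∈ U k i := F.Usym i k ▸ hu
  set u'' := cj (w k j) u with hu''
  have hum : u'' ∈ U i j := by
    rw [F.Usym]
    exact F.w1 h.jk.symm h.ik h.ij hu'
  have hc' : Cen U u k j := F.cen_symm (F.cen_tri h.ij h.ik.symm h.jk.symm hu hc)
  have hcW : u * u'' ∈ W j k := by
    rw [F.Wsym]
    exact F.uuw h.jk.symm h.ik hu
  have c1 : ∀ y ∈ U i j, u * u'' * y = y * (u * u'') := by
    intro y hy
    rw [mul_assoc, F.Uab h.ij _ hum y hy, ← mul_assoc, hc y hy, mul_assoc]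
  have c2 : ∀ y ∈ U k l, u * u'' * y = y * (u * u'') := by
    intro y hy
    have e1 : cm u y = cm u'' y := F.two2 h.b.a.b hu' hc' hy
    have S := F.two1 h hu hc (Or.inr (Or.inr hy))
    apply comm_of_cj
    rw [← cj_cj, cj_eq_cm u'' y, ← e1, cj_mul, cj_eq_cm u y, cj_eq_of_comm (hc _ S.1), ← mul_assoc,
      F.Usq h.ij _ S.1, one_mul]
  have h1 := F.core h _ hcW c1 c2
  have h2 := mul_mem h1 (inv_mem (F.UQ h.ij hum))
  rwa [mul_inv_cancel_right] at h2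

/-- Theorem C, second form: `u ∈ ⟨z_j⟩ Σ_ijk` -/
theorem thmC' (h : D4 i j k l) {u : G} (hu : u ∈ U i k) (hc : Cen U u i j) : PP ε U i k j u :=
  F.ppQ h.ij h.ik.symm h.jk.symm hu (F.thmC h hu hc)

end Fr

end Cfsg.Agent.Omega.NSix.Engine
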