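import Cfsg.Agent.Omega.NSix.Engine.Irr
import Cfsg.Agent.Omega.NSix.Engine.Forms

/-!
# 886's THEOREM T #17405: `C_{N_12}(v) ≤ L` for some `v ∈ V_12 - ⟨r_12⟩` is impossible

`LL ε` = the elements permuting the labels (`= N_G(V)`); `g ∈ NN ε i j` with `[V, V^g] ≠ 1`, `w = w j k`:
* `Hyp.t2` : `v ∈ V_ij - ⟨r_ij⟩`, `C_{N_ij}(v) ≤ L` ⟹ `(V_ij^g)^w ≤ L^g`;
* `Hyp.t3` : `(V_ij^g)^w ≤ L^g` ⟹ `[(V_ij^g)^w, V_ij^g] = 1`;
* `Hyp.t4` : both (for all `k`) ⟹ `V_ij^g ≤ V`;
* `Hyp.thmT`, with `N_{N_ij}(V_ij) ≤ L` ((1b) of #16633) as hypothesis.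
-/

set_option autoImplicit false
set_option linter.unusedSectionVars false

namespace Cfsg.Agent.Omega.NSix.Engine

open Subgroup Cfsg
open Cfsg.Agent.ZN (o2 zc)
open Cfsg.Agent.Omega.S5.Def Cfsg.Agent.Omega.NSix.Base Cfsg.Agent.Omega.NSix.Basic
open Cfsg.Agent.Omega.NSix.Zero
open Cfsg.Agent.Omega.TTn.Di (cm cj cj_mul cj_inv cj_cj cj_one cj_eq_of_comm comm_of_cj cj_eq_cm cm_eq
  cm_one_iff cm_eq')

universe u

variable {G : Type u} [Group G] {n : ℕ}

/-- the elements acting on the labels as permutations -/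
def LL (ε : (Fin n → ZMod 2) → G) : Subgroup G where
  carrier := {g | ∃ σ, Acts ε g σ}
  one_mem' := ⟨1, Acts.one⟩
  mul_mem' := by rintro a b ⟨σ, h1⟩ ⟨τ, h2⟩; exact ⟨_, h1.mul h2⟩
  inv_mem' := by rintro a ⟨σ, h1⟩; exact ⟨_, h1.inv⟩

theorem mem_LL {ε : (Fin n → ZMod 2) → G} {g : G} : g ∈ LL ε ↔ ∃ σ, Acts ε g σ := Iff.rfl

theorem KK_le_LL {ε : (Fin n → ZMod 2) → G} : KK ε ≤ LL ε := fun _ hg => ⟨1, hg⟩

/-- a permutation fixing everything off `i`, `j` -/
theorem perm_cases {i j : Fin n} {τ : Equiv.Perm (Fin n)} (hfix : ∀ c, c ≠ i → c ≠ j → τ c = c) :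
    τ = 1 ∨ τ = Equiv.swap i j := by
  have hi : τ i = i ∨ τ i = j := by
    by_contra hc
    rw [not_or] at hc
    exact hc.1 (τ.injective (hfix _ hc.1 hc.2))
  have hj : τ j = i ∨ τ j = j := by
    by_contra hc
    rw [not_or] at hc
    exact hc.2 (τ.injective (hfix _ hc.1 hc.2))
  rcases hi with h1 | h1
  · left
    have h2 : τ j = j := by
      rcases hj with h2 | h2
      · have h3 : j = i := τ.injective (h2.trans h1.symm)
        rw [h3]; exact h1
      · exact h2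
    ext k
    by_cases hk1 : k = i
    · rw [hk1, h1]; rfl
    by_cases hk2 : k = j
    · rw [hk2, h2]; rfl
    rw [hfix k hk1 hk2]; rfl
  · right
    have h2 : τ j = i := by
      rcases hj with h2 | h2
      · exact h2
      · have h3 : i = j := τ.injective (h1.trans h2.symm)
        rw [h2, h3]
    ext k
    by_cases hk1 : k = i
    · rw [hk1, h1, Equiv.swap_apply_left]
    by_cases hk2 : k = j
    · rw [hk2, h2, Equiv.swap_apply_right]
    rw [hfix k hk1 hk2, Equiv.swap_apply_of_ne_of_ne hk1 hk2]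

/-- a group of involutory permutations of an odd set which preserves `{i, j}` fixes a letter off `i`, `j` -/
theorem exists_fixed (hn : Odd n) {i j : Fin n} (hij : i ≠ j) (T : Subgroup (Equiv.Perm (Fin n)))
    (h2 : ∀ τ ∈ T, τ * τ = 1) (hp : ∀ τ ∈ T, (τ i = i ∧ τ j = j) ∨ (τ i = j ∧ τ j = i)) :
    ∃ f, f ≠ i ∧ f ≠ j ∧ ∀ τ ∈ T, τ f = f := by
  have : Fact (Nat.Prime 2) := ⟨Nat.prime_two⟩
  have hT : IsPGroup 2 T := by
    intro τ
    refine ⟨1, ?_⟩
    rw [pow_one, pow_two]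
    exact Subtype.ext (h2 τ τ.2)
  have hmod := hT.card_modEq_card_fixedPoints (Fin n)
  have hodd : Odd (Nat.card (MulAction.fixedPoints T (Fin n))) := by
    rw [Nat.card_eq_fintype_card, Fintype.card_fin] at hmod
    have h1 : Nat.card (MulAction.fixedPoints T (Fin n)) % 2 = n % 2 := hmod.symm
    rw [Nat.odd_iff] at hn ⊢
    rw [h1, hn]
  have hfix : ∀ {f : Fin n}, f ∈ MulAction.fixedPoints T (Fin n) ↔ ∀ τ ∈ T, τ f = f := by
    intro f
    constructor
    · intro h τ hτ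
      exact h ⟨τ, hτ⟩
    · intro h τ
      exact h τ.1 τ.2
  by_contra hno
  push Not at hno
  by_cases hi : i ∈ MulAction.fixedPoints T (Fin n)
  · have hj : j ∈ MulAction.fixedPoints T (Fin n) := by
      rw [hfix] at hi ⊢
      intro τ hτ
      rcases hp τ hτ with h | h
      · exact h.2
      · exact absurd (h.1.symm.trans (hi τ hτ)) hij.symm
    have he : MulAction.fixedPoints T (Fin n) = ({i, j} : Set (Fin n)) := by
      ext f
      rw [Set.mem_insert_iff, Set.mem_singleton_iff]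
      constructor
      · intro hf
        by_contra hc
        rw [not_or] at hc
        obtain ⟨τ, hτ, hτf⟩ := hno f hc.1 hc.2
        exact hτf (hfix.1 hf τ hτ)
      · rintro (rfl | rfl)
        · exact hi
        · exact hj
    rw [he, Nat.card_coe_set_eq, Set.ncard_pair hij] at hodd
    exact absurd hodd (by decide)
  · have hj : j ∉ MulAction.fixedPoints T (Fin n) := by
      intro hj
      refine hi ?_
      rw [hfix] at hj ⊢
      intro τ hτ
      rcases hp τ hτ with h | h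
      · exact h.1
      · exact absurd (h.2.symm.trans (hj τ hτ)) hij
    have he : MulAction.fixedPoints T (Fin n) = (∅ : Set (Fin n)) := by
      ext f
      rw [Set.mem_empty_iff_false, iff_false]
      intro hf
      by_cases h1 : f = i
      · exact hi (h1 ▸ hf)
      by_cases h3 : f = j
      · exact hj (h3 ▸ hf)
      obtain ⟨τ, hτ, hτf⟩ := hno f h1 h3
      exact hτf (hfix.1 hf τ hτ)
    rw [he, Nat.card_coe_set_eq, Set.ncard_empty] at hodd
    exact absurd hodd (by decide)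

namespace Hyp

variable {V P : Subgroup G} {ε : (Fin n → ZMod 2) → G} (h : Hyp V P ε) {i j k l : Fin n}
include h

theorem mem_of_rr_eq {a b c d : Fin n} (hab : a ≠ b) (e : rr ε a b = rr ε c d) : a = c ∨ a = d := by
  by_contra hc
  rw [not_or] at hc
  obtain ⟨m, h1, h2, h3, h4⟩ := exists_fifth h.n5 a b c d
  have h5 : rr ε c d ∈ UU ε a m := rr_mem_UU (Ne.symm hc.1) h3.symm (Ne.symm hc.2) h4.symm
  rw [← e] at h5
  have h6 : rr ε a b = ε (Pi.single a 1 + Pi.single b 1) := (h.ev.add _ _).symm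
  rw [h6, h.eU h1.symm, Pi.add_apply, Pi.add_apply, Pi.single_eq_same, Pi.single_eq_of_ne hab,
    Pi.single_eq_of_ne h1, Pi.single_eq_of_ne h2] at h5
  exact absurd h5 (by decide)

/-- `V_ij` is generated by the `z_k` -/
theorem mem_of_zz {R : Subgroup G} (hR : ∀ k, k ≠ i → k ≠ j → zz ε k ∈ R) {x : Fin n → ZMod 2}
    (hx : x i = x j) : ε x ∈ R := by
  classical
  have key : ∀ y : Fin n → ZMod 2, y i = 0 → y j = 0 → ε y ∈ R := by
    intro y hy1 hy2
    have h1 : y = ∑ k ∈ Finset.univ.filter (fun k => y k ≠ 0), Pi.single k 1 := by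
      funext m
      rw [Finset.sum_apply]
      by_cases hm : y m = 0
      · rw [hm, Finset.sum_eq_zero]
        intro k hk
        have : m ≠ k := by
          rintro rfl
          exact (Finset.mem_filter.mp hk).2 hm
        exact Pi.single_eq_of_ne this _
      · rw [Finset.sum_eq_single m]
        · rw [Pi.single_eq_same]; exact Tv.z2_one hm
        · intro k _ hk
          exact Pi.single_eq_of_ne (Ne.symm hk) _
        · intro h0
          exfalso
          apply h0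
          rw [Finset.mem_filter]
          exact ⟨Finset.mem_univ _, hm⟩
    have h2 : ∀ S : Finset (Fin n), i ∉ S → j ∉ S → ε (∑ k ∈ S, Pi.single k 1) ∈ R := by
      intro S
      induction S using Finset.induction_on with
      | empty => intro _ _; rw [Finset.sum_empty, h.ev.zero]; exact one_mem _
      | insert k S hk ih =>
        intro h3 h4
        rw [Finset.mem_insert, not_or] at h3 h4
        rw [Finset.sum_insert hk, h.ev.add]
        exact mul_mem (hR k (Ne.symm h3.1) (Ne.symm h4.1)) (ih h3.2 h4.2)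
    rw [h1]
    apply h2
    · intro h3
      exact (Finset.mem_filter.mp h3).2 hy1
    · intro h3
      exact (Finset.mem_filter.mp h3).2 hy2
  rcases Tv.z2 (x i) with h1 | h1
  · exact key x h1 (by rw [← hx, h1])
  · have h2 := key (x + 1) (by rw [Pi.add_apply, h1, Pi.one_apply]; decide)
      (by rw [Pi.add_apply, ← hx, h1, Pi.one_apply]; decide)
    rwa [h.ev.add, h.ev.one, mul_one] at h2

/-- `V_ij` is generated by the pairs off `i`, `j` and `r_ij` -/
theorem mem_of_rr {R : Subgroup G} (hij : i ≠ j) (hr : rr ε i j ∈ R)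
    (hR : ∀ a b, a ≠ i → a ≠ j → b ≠ i → b ≠ j → a ≠ b → rr ε a b ∈ R) {x : Fin n → ZMod 2}
    (hx : x i = x j) : ε x ∈ R :=
  h.mem_of_zz (fun _ h1 h2 => h.zz_mem_of hij hr hR h1 h2) hx

/-- a vector of `V_ij - ⟨r_ij⟩` separates two labels -/
theorem exists_sep_letters (hij : i ≠ j) {v : Fin n → ZMod 2} (hv : v i = v j) (hv1 : ε v ≠ 1) (hv2 : ε v ≠ rr ε i j) :
    ∃ c d, c ≠ i ∧ c ≠ j ∧ d ≠ i ∧ d ≠ j ∧ v c ≠ v d := by
  by_contra hc
  push Not at hc
  obtain ⟨a, hai, haj, -, -⟩ := exists_fifth h.n5 i j i j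
  have h4 : ∀ m, m ≠ i → m ≠ j → v m = v a := fun m hm hm' => hc m a hm hm' hai haj
  have h5 : v = fun m => if m = i ∨ m = j then v i else v a := by
    funext m
    by_cases hm : m = i ∨ m = j
    · rw [if_pos hm]
      rcases hm with rfl | rfl
      · rfl
      · exact hv.symm
    · rw [if_neg hm]
      rw [not_or] at hm
      exact h4 m hm.1 hm.2
  have key : ∀ p q : ZMod 2, v i = p → v a = q →
      v = fun m => if m = i ∨ m = j then p else q := by
    intro p q hp hq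
    rw [h5, hp, hq]
  rcases Tv.z2 (v i) with h1 | h1 <;> rcases Tv.z2 (v a) with h2 | h2
  · apply hv1
    have e : v = 0 := by
      rw [key _ _ h1 h2]; funext m; simp
    rw [e, h.ev.zero]
  · apply hv2
    have e : v = (Pi.single i 1 + Pi.single j 1) + 1 := by
      rw [key _ _ h1 h2]
      funext m
      rw [Pi.add_apply, Pi.add_apply, Pi.one_apply]
      by_cases hm : m = i
      · rw [hm, Pi.single_eq_same, Pi.single_eq_of_ne hij, if_pos (Or.inl rfl)]; decide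
      by_cases hm' : m = j
      · rw [hm', Pi.single_eq_same, Pi.single_eq_of_ne hij.symm, if_pos (Or.inr rfl)]; decide
      rw [Pi.single_eq_of_ne hm, Pi.single_eq_of_ne hm', if_neg (not_or.2 ⟨hm, hm'⟩)]; decide
    rw [e, h.ev.add, h.ev.one, mul_one, h.ev.add]
    rfl
  · apply hv2
    have e : v = (Pi.single i 1 + Pi.single j 1) := by
      rw [key _ _ h1 h2]
      funext m
      rw [Pi.add_apply]
      by_cases hm : m = i
      · rw [hm, Pi.single_eq_same, Pi.single_eq_of_ne hij, if_pos (Or.inl rfl)]; decide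
      by_cases hm' : m = j
      · rw [hm', Pi.single_eq_same, Pi.single_eq_of_ne hij.symm, if_pos (Or.inr rfl)]; decide
      rw [Pi.single_eq_of_ne hm, Pi.single_eq_of_ne hm', if_neg (not_or.2 ⟨hm, hm'⟩)]; decide
    rw [e, h.ev.add]
    rfl
  · apply hv1
    have e : v = 1 := by
      rw [key _ _ h1 h2]; funext m; simp
    rw [e, h.ev.one]

/-! ### (2) -/

theorem conj_mem_NN {g x : G} (hg : g ∈ NN ε i j) (hx : x ∈ NN ε i j) : cj g x ∈ NN ε i j :=
  mul_mem (mul_mem hg hx) (inv_mem hg)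

theorem cj_eps_mem (hij : i ≠ j) {g : G} (hg : g ∈ NN ε i j) {x : Fin n → ZMod 2} (hx : x i = x j) :
    cj g (ε x) ∈ UU ε i j := UU_normal hg ((h.eU hij x).2 hx)

/-- the conjugates of `V` under `N_ij` permute the labels -/
theorem cj_eps_LL (hij : i ≠ j) {g : G} (hg : g ∈ NN ε i j) (x : Fin n → ZMod 2) :
    Acts ε (cj g (ε x)) 1 ∨ Acts ε (cj g (ε x)) (Equiv.swap i j) :=
  h.QA hij (h.W2_leQ hij (W2_norm hg (h.V_le hij (h.ev.mem x))))

/-- **(2)** -/
theorem t2 {w : Fin n → Fin n → G} (F : Fr ε (UU ε) (W2 ε) (fun i j => o2 (NN ε i j)) w) (hij : i ≠ j)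
    {v : Fin n → ZMod 2} (hv : v i = v j) (hv1 : ε v ≠ 1) (hv2 : ε v ≠ rr ε i j)
    (hvC : ∀ g ∈ NN ε i j, g * ε v = ε v * g → g ∈ LL ε) {g : G} (hg : g ∈ NN ε i j) (hki : k ≠ i)
    (hkj : k ≠ j) {x : Fin n → ZMod 2} (hx : x i = x j) : cj (g⁻¹ * w j k * g) (ε x) ∈ LL ε := by
  set c₀ := g⁻¹ * w j k * g with hc₀
  set R : Subgroup G := (LL ε).comap (MulAut.conj c₀).toMonoidHom with hR
  have hmem : ∀ r, r ∈ R ↔ cj c₀ r ∈ LL ε := fun r => Iff.rfl
  have hA : ∀ r, cj c₀ r = cj g⁻¹ (cj (w j k) (cj g r)) := by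
    intro r; rw [hc₀]; unfold cj; group
  rw [← hmem]
  have hgr : cj g (rr ε i j) = rr ε i j := mem_NN'.1 hg
  have hr : rr ε i j ∈ R := by
    rw [hmem, hA, hgr, F.cj_rr (F.wA hkj.symm), Equiv.swap_apply_of_ne_of_ne hij hki.symm, Equiv.swap_apply_left]
    have e : rr ε i k = ε (Pi.single i 1 + Pi.single k 1) := (h.ev.add _ _).symm
    rw [e]
    rcases h.cj_eps_LL hij (inv_mem hg) (Pi.single i 1 + Pi.single k 1) with h1 | h1
    · exact ⟨_, h1⟩
    · exact ⟨_, h1⟩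
  have hl : ∀ (l : G) (σ : Equiv.Perm (Fin n)), Acts ε l σ → σ i = i → σ j = j → cj l (ε v) ∈ R := by
    intro l σ hlσ hi hj
    have hlN : l ∈ NN ε i j := h.acts_NN hlσ hi hj
    have hgl : g * l ∈ NN ε i j := mul_mem hg hlN
    have hy : cj (g * l) (ε v) ∈ UU ε i j := h.cj_eps_mem hij hgl hv
    set y := cj (g * l) (ε v) with hy0
    have ha := F.w1' hij hki hkj hy
    have haK := F.UK hki.symm ha
    have halt := F.alt hij hki hkj hy
    have h1 : cj (g * l)⁻¹ (cj (w j k) y) * ε v = ε v * cj (g * l)⁻¹ (cj (w j k) y) := by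
      have h2 : ε v = cj (g * l)⁻¹ y := by rw [hy0]; unfold cj; group
      rw [h2, ← cj_mul, ← cj_mul, halt]
    have h3 := hvC _ (h.conj_mem_NN (inv_mem hgl) (h.KK_le_NN i j haK)) h1
    rw [hmem, hA]
    have h4 : cj g⁻¹ (cj (w j k) (cj g (cj l (ε v)))) = cj l (cj (g * l)⁻¹ (cj (w j k) y)) := by
      rw [hy0]; unfold cj; group
    rw [h4]
    exact mul_mem (mul_mem ⟨σ, hlσ⟩ h3) (inv_mem ⟨σ, hlσ⟩)
  obtain ⟨c, d, hci, hcj, hdi, hdj, hcd⟩ := h.exists_sep_letters hij hv hv1 hv2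
  have hcd' : c ≠ d := fun e => hcd (by rw [e])
  refine h.mem_of_rr hij hr ?_ hx
  intro a b hai haj hbi hbj hab
  obtain ⟨σ, s1, s2, s3⟩ := exists_perm hcd' hab
  have si : σ i = i := s3 i hci.symm hdi.symm hai.symm hbi.symm
  have sj : σ j = j := s3 j hcj.symm hdj.symm haj.symm hbj.symm
  obtain ⟨l, -, hl0⟩ := h.ev.full σ
  have h1 := hl l σ hl0 si sj
  have h2 := hl (l * w c d) (σ * Equiv.swap c d) (hl0.mul (F.wA hcd'))
    (by rw [Equiv.Perm.mul_apply, Equiv.swap_apply_of_ne_of_ne hci.symm hdi.symm, si])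
    (by rw [Equiv.Perm.mul_apply, Equiv.swap_apply_of_ne_of_ne hcj.symm hdj.symm, sj])
  have h3 : cj l (ε v) * cj (l * w c d) (ε v) = rr ε a b := by
    rw [← cj_cj, ← cj_mul, F.mul_cj_w hcd' hcd, F.cj_rr hl0, s1, s2]
  rw [← h3]
  exact mul_mem h1 h2

/-! ### (3) -/

/-- **(3)** -/
theorem t3 {w : Fin n → Fin n → G} (F : Fr ε (UU ε) (W2 ε) (fun i j => o2 (NN ε i j)) w) (hij : i ≠ j)
    {g : G} (hg : g ∈ NN ε i j) (hki : k ≠ i) (hkj : k ≠ j)
    (hS : ∀ x, x i = x j → cj (g⁻¹ * w j k * g) (ε x) ∈ LL ε) {x y : Fin n → ZMod 2} (hx : x i = x j)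
    (hy : y i = y j) : cj (g⁻¹ * w j k * g) (ε x) * ε y = ε y * cj (g⁻¹ * w j k * g) (ε x) := by
  set c₀ := g⁻¹ * w j k * g with hc₀
  have hA : ∀ r, cj c₀ r = cj g⁻¹ (cj (w j k) (cj g r)) := by
    intro r; rw [hc₀]; unfold cj; group
  have hadd : ∀ x y, cj c₀ (ε (x + y)) = cj c₀ (ε x) * cj c₀ (ε y) := fun x y => by
    rw [h.ev.add, cj_mul]
  have hsq : ∀ x, cj c₀ (ε x) * cj c₀ (ε x) = 1 := fun x => by
    rw [← cj_mul, h.ev.sq, cj_one]
  have hU : ∀ x, x i = x j → cj g (ε x) ∈ UU ε i j := fun x hx => h.cj_eps_mem hij hg hx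
  have haK : ∀ x, x i = x j → cj (w j k) (cj g (ε x)) ∈ KK ε := fun x hx =>
    F.UK hki.symm (F.w1' hij hki hkj (hU x hx))
  have hN : ∀ x, x i = x j → cj c₀ (ε x) ∈ NN ε i j := fun x hx => by
    rw [hA]
    exact h.conj_mem_NN (inv_mem hg) (h.KK_le_NN i j (haK x hx))
  have hcm : ∀ x y, cm (ε y) (cj c₀ (ε x)) = cj g⁻¹ (be w j k (cj g (ε y)) (cj g (ε x))) := by
    intro x y
    unfold be
    rw [cj_cm, hA]
    congr 1
    unfold cj; group
  have hsymm : ∀ x y, x i = x j → y i = y j → cm (ε y) (cj c₀ (ε x)) = cm (ε x) (cj c₀ (ε y)) := by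
    intro x y hx hy
    rw [hcm, hcm, F.be_symm hij hki hkj (hU y hy) (hU x hx)]
  have hself : ∀ x, x i = x j → ε x * cj c₀ (ε x) = cj c₀ (ε x) * ε x := by
    intro x hx
    apply cm_one_iff.1
    rw [hcm, F.be_self hij hki hkj (hU x hx), cj_one]
  -- the group of permutations
  let T : Subgroup (Equiv.Perm (Fin n)) :=
    { carrier := {τ | ∃ x, x i = x j ∧ Acts ε (cj c₀ (ε x)) τ}
      one_mem' := ⟨0, rfl, by rw [h.ev.zero, cj_one]; exact Acts.one⟩
      mul_mem' := by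
        rintro τ τ' ⟨x, hx, h1⟩ ⟨y, hy, h2⟩
        exact ⟨x + y, by rw [Pi.add_apply, Pi.add_apply, hx, hy], by rw [hadd]; exact h1.mul h2⟩
      inv_mem' := by
        rintro τ ⟨x, hx, h1⟩
        refine ⟨x, hx, ?_⟩
        have h2 := h1.inv
        rwa [inv_eq_of_mul_eq_one_left (hsq x)] at h2 }
  have huniq : ∀ {g : G} {σ τ : Equiv.Perm (Fin n)}, Acts ε g σ → Acts ε g τ → σ = τ := by
    intro g σ τ h1 h2
    ext a
    have h3 : ε (Pi.single (σ a) 1) = ε (Pi.single (τ a) 1) := (h1.single a).symm.trans (h2.single a)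
    rw [h.ev.single_inj h.n3 h3]
  have hT2 : ∀ τ ∈ T, τ * τ = 1 := by
    rintro τ ⟨x, hx, h1⟩
    have h2 := h1.mul h1
    rw [hsq] at h2
    exact huniq h2 Acts.one
  have hpres : ∀ {x : Fin n → ZMod 2} {τ : Equiv.Perm (Fin n)}, x i = x j → Acts ε (cj c₀ (ε x)) τ →
      (τ i = i ∧ τ j = j) ∨ (τ i = j ∧ τ j = i) := by
    intro x τ hx h1
    have h2 := mem_NN'.1 (hN x hx)
    rw [rr_conj h1] at h2
    rcases h.mem_of_rr_eq (fun e => hij (τ.injective e)) h2 with h3 | h3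
    · left
      refine ⟨h3, ?_⟩
      rw [rr_symm h.ev] at h2
      rcases h.mem_of_rr_eq (fun e => hij.symm (τ.injective e)) h2 with h4 | h4
      · exact absurd (τ.injective (h4.trans h3.symm)) hij.symm
      · exact h4
    · right
      refine ⟨h3, ?_⟩
      rw [rr_symm h.ev] at h2
      rcases h.mem_of_rr_eq (fun e => hij.symm (τ.injective e)) h2 with h4 | h4
      · exact h4
      · exact absurd (τ.injective (h4.trans h3.symm)) hij.symm
  obtain ⟨f, hfi, hfj, hf⟩ := exists_fixed h.odd hij T hT2 (by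
    rintro τ ⟨x, hx, h1⟩
    exact hpres hx h1)
  -- pairs
  have hpair : ∀ a b : Fin n, rr ε a b = ε (Pi.single a 1 + Pi.single b 1) := fun a b => (h.ev.add _ _).symm
  have hval : ∀ {a b : Fin n}, a ≠ i → a ≠ j → b ≠ i → b ≠ j →
      (Pi.single a 1 + Pi.single b 1 : Fin n → ZMod 2) i = (Pi.single a 1 + Pi.single b 1 : Fin n → ZMod 2) j := by
    intro a b h1 h2 h3 h4
    rw [Pi.add_apply, Pi.add_apply, Pi.single_eq_of_ne h1.symm, Pi.single_eq_of_ne h2.symm,
      Pi.single_eq_of_ne h3.symm, Pi.single_eq_of_ne h4.symm]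
  have hfix : ∀ c, c ≠ i → c ≠ j → c ≠ f → ∀ τ : Equiv.Perm (Fin n), Acts ε (cj c₀ (rr ε c f)) τ →
      ∀ p, p ≠ i → p ≠ j → τ p = p := by
    intro c hci hcj hcf τ hτ p hpi hpj
    rw [hpair] at hτ
    have hx1 := hval hci hcj hfi hfj
    have hτf : τ f = f := hf τ ⟨_, hx1, hτ⟩
    have hτc : τ c = c := by
      have h1 := hself _ hx1
      rw [← hpair] at h1 hτ
      have h2 : rr ε (τ c) (τ f) = rr ε c f := by
        rw [← rr_conj hτ, ← h1, mul_inv_cancel_right]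
      rcases h.mem_of_rr_eq (fun e => hcf (τ.injective e)) h2 with h3 | h3
      · exact h3
      · exact absurd (τ.injective (h3.trans hτf.symm)) hcf
    by_contra hp
    have hpf : p ≠ f := fun e => hp (by rw [e]; exact hτf)
    have hpc : p ≠ c := fun e => hp (by rw [e]; exact hτc)
    have hli : τ p ≠ i := by
      intro e
      rcases hpres hx1 hτ with h1 | h1
      · exact hpi (τ.injective (e.trans h1.1.symm))
      · exact hpj (τ.injective (e.trans h1.2.symm))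
    have hlc : τ p ≠ c := fun e => hpc (τ.injective (e.trans hτc.symm))
    have hx2 := hval hpi hpj hfi hfj
    obtain ⟨τ', hτ'⟩ := hS _ hx2
    have hτ'f : τ' f = f := hf τ' ⟨_, hx2, hτ'⟩
    have h1 := hsymm _ _ hx1 hx2
    rw [← hpair, ← hpair] at h1
    rw [← hpair] at hτ hτ'
    have h2 : cm (rr ε p f) (cj c₀ (rr ε c f)) = rr ε p (τ p) := by
      have h3 : cm (rr ε p f) (cj c₀ (rr ε c f)) =
          rr ε p f * (cj c₀ (rr ε c f) * rr ε p f * (cj c₀ (rr ε c f))⁻¹)⁻¹ := by unfold cm; group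
      rw [h3, rr_conj hτ, hτf, rr_inv h.ev, rr_symm h.ev (τ p) f, rr_add h.ev]
    have h4 : cm (rr ε c f) (cj c₀ (rr ε p f)) = rr ε c (τ' c) := by
      have h3 : cm (rr ε c f) (cj c₀ (rr ε p f)) =
          rr ε c f * (cj c₀ (rr ε p f) * rr ε c f * (cj c₀ (rr ε p f))⁻¹)⁻¹ := by unfold cm; group
      rw [h3, rr_conj hτ', hτ'f, rr_inv h.ev, rr_symm h.ev (τ' c) f, rr_add h.ev]
    rw [h2, h4] at h1
    have h5 : p = τ' c := (h.mem_of_rr_eq (Ne.symm hp) h1).resolve_left hpc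
    have h6 : τ p = τ' c := by
      rw [rr_symm h.ev] at h1
      exact (h.mem_of_rr_eq hp h1).resolve_left hlc
    exact hp (h6.trans h5.symm)
  -- the conclusion
  set C : Subgroup G := centralizer {r | ∃ y : Fin n → ZMod 2, y i = y j ∧ r = ε y} with hC
  have hcf : ∀ c, c ≠ i → c ≠ j → c ≠ f → cj c₀ (rr ε c f) ∈ C := by
    intro c hci hcj hcf
    have hx1 := hval hci hcj hfi hfj
    obtain ⟨τ, hτ⟩ := hS _ hx1
    have hx1' := hN _ hx1
    rw [← hpair] at hτ hx1'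
    have h1 := hfix c hci hcj hcf τ hτ
    rw [hC, mem_centralizer_iff]
    rintro _ ⟨y, hy, rfl⟩
    have h2 : ε y ∈ centralizer {cj c₀ (rr ε c f)} := by
      refine h.mem_of_rr hij ?_ ?_ hy
      · rw [mem_centralizer_singleton_iff]
        exact (mem_NN.1 hx1').symm
      · intro a b hai haj hbi hbj _
        rw [mem_centralizer_singleton_iff]
        have h3 := rr_conj hτ a b
        rw [h1 a hai haj, h1 b hbi hbj, mul_inv_eq_iff_eq_mul] at h3
        exact h3.symm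
    exact mem_centralizer_singleton_iff.1 h2
  have hR : ε x ∈ C.comap (MulAut.conj c₀).toMonoidHom := by
    refine h.mem_of_rr hij ?_ ?_ hx
    · change cj c₀ (rr ε i j) ∈ C
      rw [hC, mem_centralizer_iff]
      rintro _ ⟨y, hy, rfl⟩
      have hgr : cj g (rr ε i j) = rr ε i j := mem_NN'.1 hg
      have h1 : cj c₀ (rr ε i j) = cj g⁻¹ (rr ε i k) := by
        rw [hA, hgr, F.cj_rr (F.wA hkj.symm), Equiv.swap_apply_of_ne_of_ne hij hki.symm, Equiv.swap_apply_left]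
      have h2 : ε y = cj g⁻¹ (cj g (ε y)) := by unfold cj; group
      rw [h1, h2, ← cj_mul, ← cj_mul, Fr.Kr (F.UK hij (hU y hy))]
    · intro a b hai haj hbi hbj hab
      change cj c₀ (rr ε a b) ∈ C
      have h1 : ∀ a, a ≠ i → a ≠ j → cj c₀ (rr ε a f) ∈ C := by
        intro a hai haj
        by_cases haf : a = f
        · have : rr ε a f = 1 := by rw [haf]; exact zz_sq h.ev f
          rw [this, cj_one]
          exact one_mem _
        · exact hcf a hai haj haf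
      rw [← rr_add h.ev a f b, cj_mul, rr_symm h.ev f b]
      exact mul_mem (h1 a hai haj) (h1 b hbi hbj)
  have h1 : cj c₀ (ε x) ∈ C := hR
  rw [hC, mem_centralizer_iff] at h1
  exact (h1 _ ⟨y, hy, rfl⟩).symm

/-! ### (4) -/

/-- **(4)**, one label -/
theorem t4 {w : Fin n → Fin n → G} (F : Fr ε (UU ε) (W2 ε) (fun i j => o2 (NN ε i j)) w) (hij : i ≠ j)
    {g : G} (hg : g ∈ NN ε i j) (hki : k ≠ i) (hkj : k ≠ j)
    {x₀ : Fin n → ZMod 2} (hx₀ : Acts ε (cj g (ε x₀)) (Equiv.swap i j)) {x : Fin n → ZMod 2} (hx : x i = x j)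
    (hS : cj (g⁻¹ * w j k * g) (ε x) ∈ LL ε)
    (hcomm : ∀ y, y i = y j → cj (g⁻¹ * w j k * g) (ε x) * ε y = ε y * cj (g⁻¹ * w j k * g) (ε x)) :
    cj g (ε x) ∈ UU ε i k ∨ cj g (ε x) * zz ε k ∈ UU ε i k := by
  have hA : cj (g⁻¹ * w j k * g) (ε x) = cj g⁻¹ (cj (w j k) (cj g (ε x))) := by unfold cj; group
  rw [hA] at hS hcomm
  have hyU : cj g (ε x) ∈ UU ε i j := h.cj_eps_mem hij hg hx
  set y := cj g (ε x) with hy
  have haU : cj (w j k) y ∈ UU ε i k := F.w1' hij hki hkj hyU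
  set a := cj (w j k) y with ha
  have hyK := F.UK hij hyU
  have hwa : cj (w j k) a = y := F.cj_w_w hkj.symm hyK
  obtain ⟨τ, hτ⟩ := hS
  have hτ1 : ∀ c, c ≠ i → c ≠ j → τ c = c := by
    intro c hci hcj
    have h1 := hcomm (Pi.single c 1) (by rw [Pi.single_eq_of_ne hci.symm, Pi.single_eq_of_ne hcj.symm])
    have h2 := zz_conj hτ c
    have h3 : cj g⁻¹ a * zz ε c * (cj g⁻¹ a)⁻¹ = zz ε c := by
      rw [show cj g⁻¹ a * zz ε c = zz ε c * cj g⁻¹ a from h1, mul_inv_cancel_right]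
    exact h.ev.single_inj h.n3 (h2.symm.trans h3)
  have hcs : cm (cj g⁻¹ a) (ε x₀) = 1 ∨ cm (cj g⁻¹ a) (ε x₀) = rr ε i j := by
    have e : cm (cj g⁻¹ a) (ε x₀) = cj g⁻¹ a * ε x₀ * (cj g⁻¹ a)⁻¹ * ε x₀ := by
      unfold cm; rw [h.ev.inv]
    rcases perm_cases hτ1 with h1 | h1
    · left
      rw [h1] at hτ
      have h2 : cj g⁻¹ a * ε x₀ * (cj g⁻¹ a)⁻¹ = ε x₀ := hτ x₀
      rw [e, h2, h.ev.sq]
    · rw [h1] at hτ
      rcases h.key_swap hij x₀ hτ with h2 | h2
      · left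
        rw [e, h2, h.ev.sq]
      · right
        rw [e, h2, mul_assoc, h.ev.comm_mem (rr_mem h.ev i j) (h.ev.mem x₀), ← mul_assoc, h.ev.sq, one_mul]
  have hgr : cj g (rr ε i j) = rr ε i j := mem_NN'.1 hg
  have hcs' : cm (cj g (ε x₀)) a = 1 ∨ cm (cj g (ε x₀)) a = rr ε i j := by
    have e : cj g (cm (cj g⁻¹ a) (ε x₀)) = cm a (cj g (ε x₀)) := by
      rw [cj_cm]
      congr 1
      unfold cj; group
    rcases hcs with h1 | h1
    · left
      rw [h1, cj_one] at e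
      rw [← cm_inv', ← e, inv_one]
    · right
      rw [h1, hgr] at e
      rw [← cm_inv', ← e, rr_inv h.ev]
  have hz : cj (cj g (ε x₀)) a ∈ UU ε j k := F.sw1 hx₀ hki hkj haU
  have he : a = cm (cj g (ε x₀)) a * cj (cj g (ε x₀)) a := by
    have h1 : cj (cj g (ε x₀)) a = cm (cj g (ε x₀)) a * a := cj_eq_cm _ _
    rcases hcs' with h2 | h2
    · rw [h1, h2, one_mul, one_mul]
    · rw [h1, h2, ← mul_assoc, rr_sq h.ev, one_mul]
  obtain ⟨-, h1⟩ := F.pp_of hij hki hkj haU hz hcs' he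
  rcases h1 with h1 | h1
  · left
    have h2 := F.tri hij hki hkj h1 haU
    have h3 := F.cj_w_self hkj.symm h2
    rw [hwa] at h3
    rw [h3]
    exact haU
  · right
    have hzk : zz ε j ∈ UU ε i k := F.zU hki.symm hij.symm hkj.symm
    have h4 : a * zz ε j ∈ UU ε i k := mul_mem haU hzk
    have h2 := F.tri hij hki hkj h1 h4
    have h3 := F.cj_w_self hkj.symm h2
    have h5 : cj (w j k) (zz ε j) = zz ε k := by
      have := (F.wA hkj.symm).single j
      rw [Equiv.swap_apply_left] at this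
      exact this
    rw [cj_mul, hwa, h5] at h3
    rw [h3]
    exact h4

/-- **(4)** -/
theorem t4_all [Finite G] {w : Fin n → Fin n → G} (F : Fr ε (UU ε) (W2 ε) (fun i j => o2 (NN ε i j)) w) (hij : i ≠ j)
    {y : G} (hy : y ∈ UU ε i j) (hk : ∀ k, k ≠ i → k ≠ j → y ∈ UU ε i k ∨ y * zz ε k ∈ UU ε i k) :
    ∃ x : Fin n → ZMod 2, x i = 0 ∧ x j = 0 ∧ y = ε x := by
  refine F.four_all h.thC hij hy fun k hki hkj u hu => ?_
  rcases hk k hki hkj with h1 | h1
  · exact F.Uab hki.symm _ h1 _ hu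
  · have h2 := F.Uab hki.symm _ h1 _ hu
    have h3 := Fr.Kz (F.UK hki.symm hu) k
    rw [mul_assoc, ← h3, ← mul_assoc, ← mul_assoc] at h2
    exact mul_right_cancel h2

/-- **THEOREM T**, general kill: a partner `V^g` of `V` such that all `(V_ij^g)^{w_jk}` normalise it -/
theorem kill [Finite G] {w : Fin n → Fin n → G} (F : Fr ε (UU ε) (W2 ε) (fun i j => o2 (NN ε i j)) w) (hij : i ≠ j)
    {g : G} (hg : g ∈ NN ε i j) (hne : ∃ x y, cj g (ε x) * ε y ≠ ε y * cj g (ε x))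
    (hS : ∀ k, k ≠ i → k ≠ j → ∀ x, x i = x j → cj (g⁻¹ * w j k * g) (ε x) ∈ LL ε) :
    ∀ x, x i = x j → ∃ y, y i = y j ∧ cj g (ε x) = ε y := by
  intro x hx
  obtain ⟨x₀, y₀, h0⟩ := hne
  have hx₀ : Acts ε (cj g (ε x₀)) (Equiv.swap i j) := by
    refine (h.cj_eps_LL hij hg x₀).resolve_left fun h1 => h0 ?_
    exact Fr.Ke (mem_KK.2 h1) y₀
  have h1 := h.t4_all F hij (h.cj_eps_mem hij hg hx) fun k hki hkj =>
    h.t4 F hij hg hki hkj hx₀ hx (hS k hki hkj x hx) fun y hy => h.t3 F hij hg hki hkj (hS k hki hkj) hx hy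
  obtain ⟨y, h2, h3, h4⟩ := h1
  exact ⟨y, by rw [h2, h3], h4⟩

/-- **THEOREM T** (#17405).  `hX` is (1b) of #16633 together with `C_G(V_ij) ≤ L`. -/
theorem thmT [Finite G] (hij : i ≠ j) {v : Fin n → ZMod 2} (hv : v i = v j) (hv1 : ε v ≠ 1)
    (hv2 : ε v ≠ rr ε i j) (hvC : ∀ g ∈ NN ε i j, g * ε v = ε v * g → g ∈ LL ε)
    (hX : ∀ g ∈ NN ε i j, (∀ x, x i = x j → ∃ y, y i = y j ∧ cj g (ε x) = ε y) → g ∈ LL ε)
    {g : G} (hg : g ∈ NN ε i j) (hne : ∃ x y, cj g (ε x) * ε y ≠ ε y * cj g (ε x)) : False := by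
  obtain ⟨w, F⟩ := h.exists_fr
  have h1 := h.kill F hij hg hne fun k hki hkj x hx => h.t2 F hij hv hv1 hv2 hvC hg hki hkj hx
  obtain ⟨σ, hσ⟩ := hX g hg h1
  obtain ⟨x, y, hxy⟩ := hne
  apply hxy
  have h2 : cj g (ε x) = ε (x ∘ σ.symm) := hσ x
  rw [h2, h.ev.comm]

end Hyp

end Cfsg.Agent.Omega.NSix.Engine
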